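import Groth.Agent.EGA418.K148.CMParams

/-!
# Lifting a system of parameters of a Cohen–Macaulay localization: the construction
-/

set_option autoImplicit false

universe u

namespace K148.CMLift

open IsLocalRing
open Groth.Agent K148.CMParams

/-- The dimension of a nontrivial quotient of a Noetherian local ring is a natural number. -/
theorem exists_nat_dim {A : Type u} [CommRing A] [IsNoetherianRing A] [IsLocalRing A] (I : Ideal A)
    (hI : I ≤ maximalIdeal A) : ∃ n : ℕ, ringKrullDim (A ⧸ I) = n := by
  have hne : I ≠ ⊤ := fun h => (maximalIdeal.isMaximal A).ne_top (top_le_iff.mp (h ▸ hI))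
  have hnt : Nontrivial (A ⧸ I) := Ideal.Quotient.nontrivial_iff.mpr hne
  have hloc : IsLocalRing (A ⧸ I) :=
    IsLocalRing.of_surjective' (Ideal.Quotient.mk I) Ideal.Quotient.mk_surjective
  have h1 : ((maximalIdeal (A ⧸ I)).height : WithBot ℕ∞) = ringKrullDim (A ⧸ I) :=
    maximalIdeal_height_eq_ringKrullDim
  have h2 : (maximalIdeal (A ⧸ I)).height ≠ ⊤ := Ideal.height_ne_top Ideal.IsPrime.ne_top'
  obtain ⟨n, hn⟩ := ENat.ne_top_iff_exists.mp h2
  exact ⟨n, by rw [← h1, ← hn]; rfl⟩

section

variable (A : Type u) [CommRing A]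
    [IsNoetherianRing A] [IsLocalRing A] (p : Ideal A) [p.IsPrime]

/-- The choice of one element. -/
theorem exists_step (J : Ideal A) (hJp : J ≤ p) (τ : Localization.AtPrime p)
    (hτ : τ ∈ maximalIdeal (Localization.AtPrime p))
    (hmin : ∀ Q ∈ (J.map (algebraMap A (Localization.AtPrime p))).minimalPrimes, τ ∉ Q) :
    ∃ x ∈ p, ∃ a ∉ p, algebraMap A (Localization.AtPrime p) x - algebraMap A (Localization.AtPrime p) a * τ ∈
      J.map (algebraMap A (Localization.AtPrime p)) ∧ ∀ q ∈ J.minimalPrimes, x ∉ q := by
  classical
  obtain ⟨⟨y, a⟩, hy⟩ := IsLocalization.surj p.primeCompl τ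
  replace hy : τ * algebraMap A _ (a : A) = algebraMap A _ y := hy
  let 𝔞 : Ideal A := (J.map (algebraMap A (Localization.AtPrime p))).comap
    (algebraMap A (Localization.AtPrime p))
  have hfin : {q : Ideal A | q ∈ J.minimalPrimes ∧ ¬ q ≤ p}.Finite :=
    (Ideal.finite_minimalPrimes_of_isNoetherianRing A J).subset fun q hq => hq.1
  obtain ⟨z, hz, hzq⟩ := Groth.Agent.S5073.exists_add_notMem 𝔞 y
    hfin.toFinset (fun q hq => (hfin.mem_toFinset.mp hq).1.1.1) (fun q hq hle => by
      obtain ⟨hqm, hqp⟩ := hfin.mem_toFinset.mp hq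
      have hqprime : q.IsPrime := hqm.1.1
      obtain ⟨s, hsq, hsp⟩ := Set.not_subset.mp hqp
      -- `s` is nilpotent modulo `J` in `A_q`
      obtain ⟨t, htq, n, hn⟩ : ∃ t ∉ q, ∃ n : ℕ, t * s ^ n ∈ J := by
        have hrad : algebraMap A (Localization.AtPrime q) s ∈
            (J.map (algebraMap A (Localization.AtPrime q))).radical := by
          rw [Ideal.radical_eq_sInf, Ideal.mem_sInf]
          rintro P ⟨hJP, hPp⟩
          have h1 : P.comap (algebraMap A (Localization.AtPrime q)) ≤ q := by
            have := IsLocalRing.le_maximalIdeal hPp.ne_top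
            have h2 := Ideal.comap_mono (f := algebraMap A (Localization.AtPrime q)) this
            exact h2.trans (Localization.AtPrime.under_maximalIdeal (I := q)).le
          have h3 : q ≤ P.comap (algebraMap A (Localization.AtPrime q)) :=
            hqm.2 ⟨Ideal.comap_isPrime _ _, Ideal.map_le_iff_le_comap.mp hJP⟩ h1
          exact h3 hsq
        obtain ⟨n, hn⟩ := hrad
        rw [← map_pow, IsLocalization.algebraMap_mem_map_algebraMap_iff q.primeCompl] at hn
        obtain ⟨t, ht, hts⟩ := hn
        exact ⟨t, ht, n, hts⟩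
      refine htq (hle ?_)
      rw [Ideal.mem_comap, IsLocalization.algebraMap_mem_map_algebraMap_iff p.primeCompl]
      exact ⟨s ^ n, fun h => hsp (Ideal.IsPrime.mem_of_pow_mem inferInstance n h), by
        rw [mul_comm]; exact hn⟩)
    (fun q hq q' hq' hle => by
      have h1 := (hfin.mem_toFinset.mp hq).1
      have h2 := (hfin.mem_toFinset.mp hq').1
      exact le_antisymm hle (h2.2 h1.1 hle))
  have hxy : algebraMap A (Localization.AtPrime p) (y + z) -
      algebraMap A (Localization.AtPrime p) a * τ ∈ J.map (algebraMap A (Localization.AtPrime p)) := by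
    have h1 : algebraMap A (Localization.AtPrime p) (y + z) -
      algebraMap A (Localization.AtPrime p) a * τ = algebraMap A _ z := by
      rw [map_add, ← hy]; ring
    rw [h1]
    exact hz
  have hle : J.map (algebraMap A (Localization.AtPrime p)) ≤ maximalIdeal (Localization.AtPrime p) := by
    rw [Ideal.map_le_iff_le_comap]
    exact hJp.trans (Localization.AtPrime.under_maximalIdeal (I := p)).ge
  refine ⟨y + z, ?_, a, a.2, hxy, fun q hq hxq => ?_⟩
  · have h1 : algebraMap A (Localization.AtPrime p) (y + z) ∈ maximalIdeal (Localization.AtPrime p) := by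
      have h2 : algebraMap A (Localization.AtPrime p) (y + z) =
        (algebraMap A (Localization.AtPrime p) (y + z) - algebraMap A (Localization.AtPrime p) a * τ) +
          algebraMap A (Localization.AtPrime p) a * τ := by ring
      rw [h2]
      exact Ideal.add_mem _ (hle hxy) (Ideal.mul_mem_left _ _ hτ)
    exact (Localization.AtPrime.under_maximalIdeal (I := p)).le h1
  · by_cases hqp : q ≤ p
    · have hqprime : q.IsPrime := hq.1.1
      have hdisj : Disjoint (p.primeCompl : Set A) (q : Set A) :=
        Set.disjoint_left.mpr fun x hx hxq ↦ hx (hqp hxq)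
      have hcomap : (q.map (algebraMap A (Localization.AtPrime p))).comap
          (algebraMap A (Localization.AtPrime p)) = q :=
        IsLocalization.under_map_of_isPrime_disjoint p.primeCompl _ inferInstance hdisj
      have hQ : q.map (algebraMap A (Localization.AtPrime p)) ∈
          (J.map (algebraMap A (Localization.AtPrime p))).minimalPrimes := by
        rw [IsLocalization.minimalPrimes_map p.primeCompl]
        change (q.map (algebraMap A (Localization.AtPrime p))).comap
          (algebraMap A (Localization.AtPrime p)) ∈ J.minimalPrimes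
        rw [hcomap]
        exact hq
      have hQp : (q.map (algebraMap A (Localization.AtPrime p))).IsPrime := hQ.1.1
      apply hmin _ hQ
      have h1 : algebraMap A (Localization.AtPrime p) a * τ ∈
          q.map (algebraMap A (Localization.AtPrime p)) := by
        have h2 : algebraMap A (Localization.AtPrime p) a * τ =
          algebraMap A (Localization.AtPrime p) (y + z) -
            (algebraMap A (Localization.AtPrime p) (y + z) - algebraMap A (Localization.AtPrime p) a * τ) := by
          ring
        rw [h2]
        exact Ideal.sub_mem _ (Ideal.mem_map_of_mem _ hxq) (hQ.1.2 hxy)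
      rcases hQp.mem_or_mem h1 with h | h
      · exact absurd (Ideal.eq_top_of_isUnit_mem _ h
          (IsLocalization.map_units (Localization.AtPrime p) a)) hQp.ne_top
      · exact h
    · exact hzq q (hfin.mem_toFinset.mpr ⟨hq, hqp⟩) hxq

/-- The iterated choice. -/
theorem exists_family [hR : LocCoh.IsCohenMacaulayLocalRing (Localization.AtPrime p)] (s : ℕ)
    (hs : ringKrullDim (Localization.AtPrime p) = s) (t : Fin s → Localization.AtPrime p)
    (ht : ∀ i, t i ∈ maximalIdeal (Localization.AtPrime p))
    (hsop : ringKrullDim (Localization.AtPrime p ⧸ Ideal.span (Set.range t)) = 0)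
    (d : ℕ) (hd : ringKrullDim A = d)
    (t' : ℕ → Localization.AtPrime p) (ht' : ∀ i : Fin s, t' i = t i) :
    ∀ m ≤ s, ∃ x a : ℕ → A, (∀ j < m, x j ∈ p) ∧ (∀ j < m, a j ∉ p) ∧
      (∀ j < m, algebraMap A (Localization.AtPrime p) (x j) -
        algebraMap A (Localization.AtPrime p) (a j) * t' j ∈ Ideal.span (t' '' {l | l < j})) ∧
      ∃ n : ℕ, ringKrullDim (A ⧸ Ideal.span (x '' {l | l < m})) = n ∧ n + m ≤ d := by
  intro m
  induction m with
  | zero =>
    intro _
    refine ⟨fun _ => 0, fun _ => 1, by simp, by simp, by simp, d, ?_, by simp⟩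
    have h1 : Ideal.span ((fun _ => 0 : ℕ → A) '' {l | l < 0}) = ⊥ := by simp
    rw [h1, ← hd]
    exact ringKrullDim_eq_of_ringEquiv (RingEquiv.quotientBot A)
  | succ m ih =>
    intro hm
    obtain ⟨x, a, hx, ha, hxa, n, hn, hnd⟩ := ih (by omega)
    set J : Ideal A := Ideal.span (x '' {l | l < m}) with hJ
    have hJp : J ≤ p := by
      rw [hJ, Ideal.span_le]
      rintro _ ⟨j, hj, rfl⟩
      exact hx j hj
    have hmap : J.map (algebraMap A (Localization.AtPrime p)) = Ideal.span (t' '' {l | l < m}) := by
      rw [hJ, Ideal.map_span, ← Set.image_comp]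
      exact span_eq_of_triangular (fun j => algebraMap A _ (x j)) (fun j => algebraMap A _ (a j)) t' m
        (fun j hj => IsLocalization.map_units (Localization.AtPrime p) (⟨a j, ha j hj⟩ : p.primeCompl))
        hxa
    have hset : t' '' {l | l < m} = t '' {j : Fin s | j < ⟨m, hm⟩} := by
      ext z
      constructor
      · rintro ⟨l, hl, rfl⟩
        have hl' : l < m := hl
        exact ⟨⟨l, by omega⟩, hl, (ht' ⟨l, by omega⟩).symm⟩
      · rintro ⟨l, hl, rfl⟩
        exact ⟨l, hl, ht' l⟩
    obtain ⟨x0, hx0, a0, ha0, hxa0, hmin⟩ := exists_step A p J hJp (t ⟨m, hm⟩) (ht _) (by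
      rw [hmap, hset]
      intro Q hQ
      exact notMem_of_mem_minimalPrimes s hs t ht hsop ⟨m, hm⟩ Q hQ)
    have hup : ∀ j < m, Function.update x m x0 j = x j := fun j hj =>
      Function.update_of_ne (by omega) _ _
    have hup' : ∀ j < m, Function.update a m a0 j = a j := fun j hj =>
      Function.update_of_ne (by omega) _ _
    refine ⟨Function.update x m x0, Function.update a m a0, ?_, ?_, ?_, ?_⟩
    · intro j hj
      rcases Nat.lt_succ_iff_lt_or_eq.mp hj with h | rfl
      · rw [hup j h]; exact hx j h
      · rw [Function.update_self]; exact hx0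
    · intro j hj
      rcases Nat.lt_succ_iff_lt_or_eq.mp hj with h | rfl
      · rw [hup' j h]; exact ha j h
      · rw [Function.update_self]; exact ha0
    · intro j hj
      rcases Nat.lt_succ_iff_lt_or_eq.mp hj with h | rfl
      · rw [hup j h, hup' j h]; exact hxa j h
      · rw [Function.update_self, Function.update_self, ← hmap]
        have := ht' ⟨j, hm⟩
        change t' j = _ at this
        rw [this]
        exact hxa0
    · have hset2 : ({l | l < m + 1} : Set ℕ) = insert m {l | l < m} := by
        ext l
        change l < m + 1 ↔ l = m ∨ l < m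
        omega
      have himg : Function.update x m x0 '' {l | l < m + 1} = insert x0 (x '' {l | l < m}) := by
        rw [hset2, Set.image_insert_eq, Function.update_self]
        congr 1
        exact Set.image_congr fun j hj => hup j hj
      rw [himg]
      have hle : Ideal.span (insert x0 (x '' {l | l < m})) ≤ maximalIdeal A := by
        refine le_trans ?_ (le_maximalIdeal (Ideal.IsPrime.ne_top (I := p) inferInstance))
        rw [Ideal.span_le]
        rintro z (rfl | hz)
        · exact hx0
        · exact hJp (Ideal.subset_span hz)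
      obtain ⟨n', hn'⟩ := exists_nat_dim _ hle
      refine ⟨n', hn', ?_⟩
      have h1 := Flat2F.LocalParams.add_one_le_of_notMem_minimalPrimes J
        (Ideal.span (insert x0 (x '' {l | l < m}))) (Ideal.span_mono (Set.subset_insert _ _)) x0
        (Ideal.subset_span (Set.mem_insert _ _)) hmin n' n hn'.ge hn.le
      omega

end

end K148.CMLift
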