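import Groth.Agent.Ega4A.CMCatenary
import Groth.Agent.Flat2F.LocalParams
import Groth.Agent.S5073
import Mathlib.RingTheory.Ideal.MinimalPrime.Localization
import Mathlib.RingTheory.Ideal.KrullsHeightTheorem

/-!
# Lifting a system of parameters of a Cohen–Macaulay localization
-/

set_option autoImplicit false

universe u

namespace K148.CMParams

open IsLocalRing
open Groth.Agent

/-- In a Cohen–Macaulay local ring, a parameter is in no minimal prime over the previous ones. -/
theorem notMem_of_mem_minimalPrimes {R : Type u} [CommRing R] [hR : LocCoh.IsCohenMacaulayLocalRing R]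
    (s : ℕ) (hs : ringKrullDim R = s) (t : Fin s → R) (ht : ∀ i, t i ∈ maximalIdeal R)
    (hsop : ringKrullDim (R ⧸ Ideal.span (Set.range t)) = 0) (i : Fin s) (Q : Ideal R)
    (hQ : Q ∈ (Ideal.span (t '' {j : Fin s | j < i})).minimalPrimes) : t i ∉ Q := by
  intro hti
  have hQp : Q.IsPrime := hQ.1.1
  set I := Ideal.span (t '' {j : Fin s | j < i}) with hI
  -- the height of `Q`
  have hht : Q.height ≤ (i : ℕ) := by
    have h1 := Ideal.height_le_height_add_encard_of_subset (t '' {j : Fin s | j < i}) (p := Q)
      (fun x hx => hQ.1.2 (Ideal.subset_span hx))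
    have h2 : (Q.map (Ideal.Quotient.mk (Ideal.span (t '' {j : Fin s | j < i})))).height = 0 := by
      have hmin : Q.map (Ideal.Quotient.mk I) ∈ minimalPrimes (R ⧸ I) := by
        have hcomap : (Q.map (Ideal.Quotient.mk I)).comap (Ideal.Quotient.mk I) = Q := by
          rw [Ideal.comap_map_of_surjective _ Ideal.Quotient.mk_surjective,
            ← RingHom.ker_eq_comap_bot, Ideal.mk_ker, sup_eq_left]
          exact hQ.1.2
        have hpr : (Q.map (Ideal.Quotient.mk I)).IsPrime :=
          Ideal.map_isPrime_of_surjective Ideal.Quotient.mk_surjective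
            (by rw [Ideal.mk_ker]; exact hQ.1.2)
        refine ⟨⟨hpr, bot_le⟩, fun P hP hle => ?_⟩
        have hPp : P.IsPrime := hP.1
        have h3 := hQ.2 (y := P.comap (Ideal.Quotient.mk I)) ⟨Ideal.comap_isPrime _ _, by
          intro x hx
          rw [Ideal.mem_comap, Ideal.Quotient.eq_zero_iff_mem.mpr hx]
          exact P.zero_mem⟩ (by
            rw [← hcomap]
            exact Ideal.comap_mono hle)
        rw [Ideal.map_le_iff_le_comap]
        exact h3
      have hpr : (Q.map (Ideal.Quotient.mk I)).IsPrime := hmin.1.1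
      exact (Ideal.height_eq_zero_iff (I := Q.map (Ideal.Quotient.mk I))).mpr hmin
    rw [h2, zero_add] at h1
    refine h1.trans ((Set.encard_image_le _ _).trans ?_)
    have h3 : ({j : Fin s | j < i} : Set (Fin s)) = (Finset.Iio i : Finset (Fin s)) := by
      ext j; simp
    rw [h3, Set.encard_coe_eq_coe_finsetCard, Fin.card_Iio]
  -- the dimension formula
  have hM : LocCoh.IsCohenMacaulayModule R R := hR.supportDim_eq_depth
  have hsupp : Module.support R R = Set.univ := by
    rw [Module.support_eq_zeroLocus, Set.eq_univ_iff_forall]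
    intro p x hx
    have : x = 0 := by
      have := Module.mem_annihilator.mp hx 1
      simpa using this
    rw [this]
    exact p.asIdeal.zero_mem
  have hdim := Ega4A.CMCatenary.height_add_ringKrullDim_quotient hM hsupp Q
  rw [hs] at hdim
  -- the bound of the dimension of the quotient
  have hnt : Nontrivial (R ⧸ Q) := Ideal.Quotient.nontrivial_iff.mpr hQp.ne_top
  have hloc : IsLocalRing (R ⧸ Q) :=
    IsLocalRing.of_surjective' (Ideal.Quotient.mk Q) Ideal.Quotient.mk_surjective
  have hlh : IsLocalHom (Ideal.Quotient.mk Q) :=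
    IsLocalHom.of_surjective _ Ideal.Quotient.mk_surjective
  have hle : ringKrullDim (R ⧸ Q) ≤ ((s - 1 - (i : ℕ) : ℕ) : WithBot ℕ∞) := by
    have h1 := ringKrullDim_le_ringKrullDim_quotient_add_encard
      ((fun j => Ideal.Quotient.mk Q (t j)) '' {j : Fin s | i < j}) (by
        rintro _ ⟨j, -, rfl⟩
        have h2 : Ideal.Quotient.mk Q (t j) ∈ maximalIdeal (R ⧸ Q) := by
          have h3 : maximalIdeal R ≤ (maximalIdeal (R ⧸ Q)).comap (Ideal.Quotient.mk Q) :=
            ((IsLocalRing.local_hom_TFAE (Ideal.Quotient.mk Q)).out 0 3).mp hlh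
          exact h3 (ht j)
        rw [IsLocalRing.ringJacobson_eq_maximalIdeal]
        exact h2)
    have h2 : ringKrullDim ((R ⧸ Q) ⧸ Ideal.span
        ((fun j => Ideal.Quotient.mk Q (t j)) '' {j : Fin s | i < j})) ≤ 0 := by
      rw [← hsop]
      refine ringKrullDim_le_of_surjective (Ideal.Quotient.lift (Ideal.span (Set.range t))
        ((Ideal.Quotient.mk _).comp (Ideal.Quotient.mk Q)) ?_) ?_
      · have h3 : Ideal.span (Set.range t) ≤ RingHom.ker ((Ideal.Quotient.mk (Ideal.span
          ((fun j => Ideal.Quotient.mk Q (t j)) '' {j : Fin s | i < j}))).comp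
            (Ideal.Quotient.mk Q)) := by
          rw [Ideal.span_le]
          rintro _ ⟨j, rfl⟩
          rw [SetLike.mem_coe, RingHom.mem_ker, RingHom.comp_apply, Ideal.Quotient.eq_zero_iff_mem]
          rcases lt_trichotomy j i with h | h | h
          · have : Ideal.Quotient.mk Q (t j) = 0 :=
              Ideal.Quotient.eq_zero_iff_mem.mpr (hQ.1.2 (Ideal.subset_span ⟨j, h, rfl⟩))
            rw [this]
            exact Ideal.zero_mem _
          · have : Ideal.Quotient.mk Q (t j) = 0 :=
              Ideal.Quotient.eq_zero_iff_mem.mpr (h ▸ hti)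
            rw [this]
            exact Ideal.zero_mem _
          · exact Ideal.subset_span ⟨j, h, rfl⟩
        exact fun a ha => h3 ha
      · intro y
        obtain ⟨y, rfl⟩ := Ideal.Quotient.mk_surjective y
        obtain ⟨y, rfl⟩ := Ideal.Quotient.mk_surjective y
        exact ⟨Ideal.Quotient.mk _ y, rfl⟩
    have h3 : ((fun j => Ideal.Quotient.mk Q (t j)) '' {j : Fin s | i < j}).encard ≤
        ((s - 1 - (i : ℕ) : ℕ) : ℕ∞) := by
      refine (Set.encard_image_le _ _).trans ?_
      have h4 : ({j : Fin s | i < j} : Set (Fin s)) = (Finset.Ioi i : Finset (Fin s)) := by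
        ext j; simp
      rw [h4, Set.encard_coe_eq_coe_finsetCard, Fin.card_Ioi]
    refine h1.trans ((add_le_add h2 (WithBot.coe_le_coe.mpr h3)).trans ?_)
    rw [zero_add]
    rfl
  have hcon : ((s : ℕ) : WithBot ℕ∞) ≤ (((i : ℕ) + (s - 1 - (i : ℕ)) : ℕ) : WithBot ℕ∞) := by
    rw [← hdim]
    push_cast
    exact add_le_add (by exact_mod_cast WithBot.coe_le_coe.mpr hht) (by exact_mod_cast hle)
  have hcon' : s ≤ (i : ℕ) + (s - 1 - (i : ℕ)) := by exact_mod_cast hcon
  have := i.2
  omega

/-- Triangular families generate the same ideals. -/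
theorem span_eq_of_triangular {R : Type*} [CommRing R] (y b t : ℕ → R) (m : ℕ)
    (hb : ∀ j < m, IsUnit (b j))
    (h : ∀ j < m, y j - b j * t j ∈ Ideal.span (t '' {l | l < j})) :
    Ideal.span (y '' {l | l < m}) = Ideal.span (t '' {l | l < m}) := by
  induction m with
  | zero => simp
  | succ m ih =>
    have ih' := ih (fun j hj => hb j (hj.trans (Nat.lt_succ_self m)))
      (fun j hj => h j (hj.trans (Nat.lt_succ_self m)))
    have hset : ({l | l < m + 1} : Set ℕ) = insert m {l | l < m} := by
      ext l
      simp only [Set.mem_setOf_eq, Set.mem_insert_iff]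
      omega
    rw [hset, Set.image_insert_eq, Set.image_insert_eq, Ideal.span_insert, Ideal.span_insert, ih']
    have h1 := h m (Nat.lt_succ_self m)
    obtain ⟨v, hv⟩ := hb m (Nat.lt_succ_self m)
    apply le_antisymm
    · refine sup_le ?_ le_sup_right
      rw [Ideal.span_singleton_le_iff_mem]
      have h2 : y m = (y m - b m * t m) + b m * t m := by ring
      rw [h2]
      exact Ideal.add_mem _ (Ideal.mem_sup_right h1)
        (Ideal.mem_sup_left (Ideal.mul_mem_left _ _ (Ideal.mem_span_singleton_self _)))
    · refine sup_le ?_ le_sup_right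
      rw [Ideal.span_singleton_le_iff_mem]
      have h2 : t m = (v⁻¹ : Rˣ) * y m - (v⁻¹ : Rˣ) * (y m - b m * t m) := by
        rw [← hv]
        have : ((v⁻¹ : Rˣ) : R) * v = 1 := Units.inv_mul v
        linear_combination (-t m) * this
      rw [h2]
      exact Ideal.sub_mem _
        (Ideal.mem_sup_left (Ideal.mul_mem_left _ _ (Ideal.mem_span_singleton_self _)))
        (Ideal.mem_sup_right (Ideal.mul_mem_left _ _ h1))

end K148.CMParams
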