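import Groth.Agent.EGA418.K148.Semilocal
import Groth.Agent.Ega4late.H544.Pkg
import Groth.Agent.Ega4late.H544.Struct
import Groth.Agent.Ega41.PowComplete
import Groth.Agent.Ega41.MvPS
import Mathlib.RingTheory.AdicCompletion.LocalRing

/-!
# The completed tensor product of a complete local algebra with a field extension
-/

set_option autoImplicit false
universe u
open scoped TensorProduct

namespace K148.CTensor

open IsLocalRing Groth.Agent Groth.Agent.Ega4late.H544

/-- The base change of a finite algebra is finite over the right factor. -/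
theorem finite_right {C C' A S : Type u} [CommRing C] [CommRing C'] [CommRing A] [CommRing S]
    [Algebra C C'] [Algebra C A] [Module.Finite C A] (Φ : A ⊗[C] C' ≃+* S) (h : C' →+* S)
    (hh : ∀ c, h c = Φ (1 ⊗ₜ c)) : h.Finite := by
  let e : C' ⊗[C] A ≃+* S := ((Algebra.TensorProduct.comm C C' A).toRingEquiv).trans Φ
  have h2 : (e : C' ⊗[C] A →+* S).comp (algebraMap C' (C' ⊗[C] A)) = h := by
    refine RingHom.ext fun c ↦ ?_
    rw [hh]
    change Φ (Algebra.TensorProduct.comm C C' A (c ⊗ₜ 1)) = _
    rw [Algebra.TensorProduct.comm_tmul]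
  rw [← h2]
  exact RingHom.Finite.comp (RingHom.Finite.of_surjective _ e.surjective)
    (RingHom.finite_algebraMap.mpr inferInstance)

theorem surjective_residue (k' : Type u) [Field k'] (d : ℕ) :
    Function.Surjective ((residue (MvPowerSeries (Fin d) k')).comp
      (algebraMap k' (MvPowerSeries (Fin d) k'))) := by
  intro y
  obtain ⟨f, rfl⟩ := residue_surjective y
  refine ⟨MvPowerSeries.constantCoeff f, ?_⟩
  rw [RingHom.comp_apply, ← sub_eq_zero, ← map_sub, residue_eq_zero_iff, mem_maximalIdeal,
    mem_nonunits_iff, MvPowerSeries.isUnit_iff_constantCoeff]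
  simp [MvPowerSeries.algebraMap_apply]

/-- A finite ring map out of a local ring killing the maximal ideal stays finite on a coefficient
field. -/
theorem finite_comp {k' S K : Type u} [CommRing k'] [CommRing S] [IsLocalRing S] [CommRing K]
    (i : k' →+* S) (hi : Function.Surjective ((residue S).comp i)) (χ : S →+* K) (hχ : χ.Finite)
    (hm : ∀ x ∈ maximalIdeal S, χ x = 0) : (χ.comp i).Finite := by
  let χ' : ResidueField S →+* K := Ideal.Quotient.lift (maximalIdeal S) χ hm
  have h1 : χ = χ'.comp (residue S) := by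
    ext x; rfl
  have h2 : χ'.Finite := by
    rw [h1] at hχ
    exact RingHom.Finite.of_comp_finite hχ
  have h3 : χ.comp i = χ'.comp ((residue S).comp i) := by
    rw [h1, RingHom.comp_assoc]
  rw [h3]
  exact h2.comp (RingHom.Finite.of_surjective _ hi)

section

variable (k A k' : Type u) [Field k]
    [CommRing A] [IsNoetherianRing A] [IsLocalRing A] [Algebra k A]
    [IsAdicComplete (IsLocalRing.maximalIdeal A) A] [Module.Finite k (IsLocalRing.ResidueField A)]
    [Field k'] [Algebra k k']

theorem main (I : Ideal (A ⊗[k] k'))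
    (hI : I = (IsLocalRing.maximalIdeal A).map (algebraMap A (A ⊗[k] k'))) :
    IsNoetherianRing (AdicCompletion I (A ⊗[k] k')) ∧
      Finite (MaximalSpectrum (AdicCompletion I (A ⊗[k] k'))) ∧
      IsAdicComplete ((IsLocalRing.maximalIdeal A).map (algebraMap A (AdicCompletion I (A ⊗[k] k'))))
        (AdicCompletion I (A ⊗[k] k')) ∧
      ∀ M : MaximalSpectrum (AdicCompletion I (A ⊗[k] k')),
        IsAdicComplete (IsLocalRing.maximalIdeal (Localization.AtPrime M.asIdeal))
            (Localization.AtPrime M.asIdeal) ∧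
          Module.FaithfullyFlat A (Localization.AtPrime M.asIdeal) ∧
          ringKrullDim (Localization.AtPrime M.asIdeal) = ringKrullDim A ∧
          (((Ideal.Quotient.mk M.asIdeal).comp (algebraMap (A ⊗[k] k') (AdicCompletion I (A ⊗[k] k')))).comp
              Algebra.TensorProduct.includeRight.toRingHom).Finite := by
  have hI' : I = (maximalIdeal A).map (Algebra.TensorProduct.includeLeft : A →ₐ[k] A ⊗[k] k') := hI
  subst hI'
  obtain ⟨d, m, _, _, _, hlocA, f, hf, hX⟩ := Struct.exists_struct k A
  obtain ⟨Φ, hΦ1, hΦ2⟩ := Ega4late.H526.CBCPow.exists_ringEquiv k k' d A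
  set T := AdicCompletion ((maximalIdeal A).map
    (Algebra.TensorProduct.includeLeft : A →ₐ[k] A ⊗[k] k')) (A ⊗[k] k') with hT
  have htow : IsScalarTower A (A ⊗[k] k') T := inferInstance
  have hΦ1' : ∀ a : A, Φ (a ⊗ₜ 1) = algebraMap A T a := fun a => by
    rw [hΦ1, IsScalarTower.algebraMap_apply A (A ⊗[k] k') T]
    rfl
  let S := MvPowerSeries (Fin d) k
  let S' := MvPowerSeries (Fin d) k'
  let γ : S' →+* T := (Φ : _ →+* T).comp
    (Algebra.TensorProduct.includeRight : S' →ₐ[S] A ⊗[S] S').toRingHom
  have hγ : ∀ c, γ c = Φ (1 ⊗ₜ c) := fun c => rfl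
  have hfinγ : γ.Finite := finite_right Φ γ hγ
  let algS' : Algebra S' T := γ.toAlgebra
  have hfin : Module.Finite S' T := hfinγ
  have hflatS : Module.Flat S S' := Ega4late.H526.PowFlat.flat k k' d
  have hflat : Module.Flat A T := by
    have h1 := Pkg.flat_left (C := S) (C' := S') Φ (algebraMap A T) hΦ1'
    exact RingHom.flat_algebraMap_iff.mp h1
  have hcplS' : IsAdicComplete (maximalIdeal S') S' := Ega41.MvPS.isAdicComplete_maximalIdeal k'
  have hNT : IsNoetherianRing T := IsNoetherianRing.of_finite S' T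
  have hmap : (maximalIdeal A).map (algebraMap A T) = (((maximalIdeal A).map
      (Algebra.TensorProduct.includeLeft : A →ₐ[k] A ⊗[k] k'))).map (algebraMap (A ⊗[k] k') T) := by
    rw [IsScalarTower.algebraMap_eq A (A ⊗[k] k') T, ← Ideal.map_map]
    rfl
  have hcpl : IsAdicComplete ((maximalIdeal A).map (algebraMap A T)) T := by
    rw [hmap]
    refine AdicCompletion.isAdicComplete_self _ ?_
    exact ((isNoetherianRing_iff_ideal_fg A).mp inferInstance (maximalIdeal A)).map _
  have hA : ∀ M : Ideal T, M.IsMaximal → (maximalIdeal A).map (algebraMap A T) ≤ M := by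
    intro M hM
    have h1 := IsAdicComplete.le_jacobson_bot ((maximalIdeal A).map (algebraMap A T))
    exact h1.trans (sInf_le ⟨bot_le, hM⟩)
  have hle : (maximalIdeal S').map (algebraMap S' T) ≤ (maximalIdeal A).map (algebraMap A T) := by
    have h1 : maximalIdeal S' = (maximalIdeal S).map (algebraMap S S') :=
      (Ega4late.H526.PowFlat.map_maximalIdeal k k' d).symm
    have h2 : (algebraMap S' T).comp (algebraMap S S') = (algebraMap A T).comp (algebraMap S A) := by
      ext s : 1
      change γ (algebraMap S S' s) = algebraMap A T (algebraMap S A s)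
      rw [hγ, ← hΦ1', Algebra.algebraMap_eq_smul_one, Algebra.algebraMap_eq_smul_one,
        TensorProduct.tmul_smul, TensorProduct.smul_tmul']
    rw [h1, Ideal.map_map, h2, ← Ideal.map_map]
    exact Ideal.map_mono (((IsLocalRing.local_hom_TFAE (algebraMap S A)).out 0 2).mp hlocA)
  refine ⟨hNT, Semilocal.finite_maximalSpectrum S' T, hcpl, fun M => ?_⟩
  have hM := M.isMaximal
  obtain ⟨h1, h2⟩ := Semilocal.main A S' T hle hA M.asIdeal
  refine ⟨Semilocal.isAdicComplete_localization S' T M.asIdeal, h1, h2, ?_⟩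
  have h3 : ((Ideal.Quotient.mk M.asIdeal).comp (algebraMap (A ⊗[k] k') T)).comp
      (Algebra.TensorProduct.includeRight : k' →ₐ[k] A ⊗[k] k').toRingHom =
      ((Ideal.Quotient.mk M.asIdeal).comp γ).comp (algebraMap k' S') := by
    ext c : 1
    change Ideal.Quotient.mk M.asIdeal (algebraMap (A ⊗[k] k') T (1 ⊗ₜ c)) =
      Ideal.Quotient.mk M.asIdeal (γ (algebraMap k' S' c))
    rw [hγ, hΦ2]
  rw [h3]
  refine finite_comp (algebraMap k' S') (surjective_residue k' d) _ ?_ ?_
  · exact (RingHom.Finite.of_surjective _ Ideal.Quotient.mk_surjective).comp hfinγ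
  · intro x hx
    change Ideal.Quotient.mk M.asIdeal (algebraMap S' T x) = 0
    rw [Ideal.Quotient.eq_zero_iff_mem]
    exact hA M.asIdeal hM (hle (Ideal.mem_map_of_mem _ hx))

end

end K148.CTensor
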