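import Groth.Agent.Ega4late.H539.OmegaHat
import Mathlib.RingTheory.AdicCompletion.Exactness
import Mathlib.RingTheory.AdicCompletion.Completeness

/-!
# Right exactness of completion with finite middle term, and finiteness of completed differentials
-/

set_option autoImplicit false

universe u v

namespace K148.CompExact

open IsLocalRing KaehlerDifferential TensorProduct
open Groth.Agent

/-- Finiteness of the completed differentials when the differentials of the residue field are
finite-dimensional. -/
theorem finite_completion (k A : Type u) [CommRing k] [CommRing A] [IsLocalRing A]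
    [IsNoetherianRing A] [Algebra k A] [IsAdicComplete (maximalIdeal A) A]
    [Module.Finite (ResidueField A) (Ω[ResidueField A⁄k])] :
    Module.Finite A (AdicCompletion (maximalIdeal A) (Ω[A⁄k])) := by
  let K := ResidueField A
  have hsurj : Function.Surjective (algebraMap A K) := residue_surjective
  have hKA : Module.Finite A K := Module.Finite.of_surjective (Algebra.linearMap A K) hsurj
  have h0 : Module.Finite A (Ω[K⁄k]) := Module.Finite.trans K _
  have h1 : Module.Finite A (K ⊗[A] Ω[A⁄k]) := by
    let g : K ⊗[A] Ω[A⁄k] →ₗ[A] Ω[K⁄k] := (mapBaseChange k A K).restrictScalars A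
    have hex : LinearMap.range (kerCotangentToTensor k A K) = LinearMap.ker g :=
      range_kerCotangentToTensor k A K hsurj
    have hcot : Module.Finite A (RingHom.ker (algebraMap A K)).Cotangent :=
      Module.Finite.of_surjective _ (Ideal.toCotangent_surjective _)
    have hN : IsNoetherian A (K ⊗[A] Ω[A⁄k]) :=
      isNoetherian_of_range_eq_ker (kerCotangentToTensor k A K) g hex
    infer_instance
  apply Ega1.LimitSystem.finite_of_finite_quotient (I := maximalIdeal A)
  have h2 : Module.Finite A ((Ω[A⁄k]) ⧸ (maximalIdeal A ^ 1 • ⊤ : Submodule A (Ω[A⁄k]))) := by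
    rw [pow_one]
    have h3 : Module.Finite A ((A ⧸ maximalIdeal A) ⊗[A] Ω[A⁄k]) := h1
    exact Module.Finite.equiv (quotTensorEquivQuotSMul (Ω[A⁄k]) (maximalIdeal A))
  rw [Ega4late.H539.OmegaHat.eval_one_ker]
  exact Module.Finite.equiv
    ((AdicCompletion.eval (maximalIdeal A) (Ω[A⁄k]) 1).quotKerEquivOfSurjective
      (AdicCompletion.eval_surjective _ _ _)).symm

/-- Right exactness of completion when the completed middle term is finite. -/
theorem range_map_eq_ker_map {S M N Q : Type u} [CommRing S] [IsLocalRing S] [IsNoetherianRing S]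
    [AddCommGroup M] [Module S M] [AddCommGroup N] [Module S N] [AddCommGroup Q] [Module S Q]
    (f : M →ₗ[S] N) (g : N →ₗ[S] Q) (hfg : Function.Exact f g) (hg : Function.Surjective g)
    [Module.Finite S (AdicCompletion (maximalIdeal S) N)] :
    LinearMap.range (AdicCompletion.map (maximalIdeal S) f) =
      LinearMap.ker (AdicCompletion.map (maximalIdeal S) g) := by
  apply le_antisymm
  · rintro _ ⟨x, rfl⟩
    rw [LinearMap.mem_ker, AdicCompletion.map_comp_apply, hfg.linearMap_comp_eq_zero]
    exact LinearMap.congr_fun (AdicCompletion.map_zero (maximalIdeal S)) x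
  · intro y hy
    rw [LinearMap.mem_ker] at hy
    let I : Submodule S (AdicCompletion (maximalIdeal S) N) :=
      (LinearMap.range (AdicCompletion.map (maximalIdeal S) f)).restrictScalars S
    change y ∈ I
    rw [← Submodule.Quotient.mk_eq_zero]
    apply IsHausdorff.haus (I := maximalIdeal S)
      (inferInstance : IsHausdorff (maximalIdeal S) (AdicCompletion (maximalIdeal S) N ⧸ I))
    intro n
    rw [SModEq.zero]
    obtain ⟨x0, hx0⟩ := Submodule.Quotient.mk_surjective _
      (AdicCompletion.eval (maximalIdeal S) N n y)
    have h1 : g x0 ∈ (maximalIdeal S ^ n • ⊤ : Submodule S Q) := by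
      have h2 : AdicCompletion.eval (maximalIdeal S) Q n
          (AdicCompletion.map (maximalIdeal S) g y) = 0 := by rw [hy, map_zero]
      rw [← Submodule.Quotient.mk_eq_zero, ← h2]
      have h3 : y = AdicCompletion.of (maximalIdeal S) N x0 +
          (y - AdicCompletion.of (maximalIdeal S) N x0) := by abel
      have h4 : AdicCompletion.eval (maximalIdeal S) N n
          (y - AdicCompletion.of (maximalIdeal S) N x0) = 0 := by
        rw [map_sub, ← hx0, AdicCompletion.eval_of]
        exact sub_self _
      have h5 : y - AdicCompletion.of (maximalIdeal S) N x0 ∈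
          (maximalIdeal S ^ n • ⊤ : Submodule S (AdicCompletion (maximalIdeal S) N)) := by
        rw [AdicCompletion.pow_smul_top_eq_ker_eval (IsNoetherian.noetherian (maximalIdeal S))]
        exact h4
      have h6 : AdicCompletion.eval (maximalIdeal S) Q n (AdicCompletion.map (maximalIdeal S) g
          (y - AdicCompletion.of (maximalIdeal S) N x0)) = 0 := by
        have h7 : AdicCompletion.map (maximalIdeal S) g
          (y - AdicCompletion.of (maximalIdeal S) N x0) ∈
            (maximalIdeal S ^ n • ⊤ : Submodule S (AdicCompletion (maximalIdeal S) Q)) := by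
          have h8 : (maximalIdeal S ^ n • ⊤ : Submodule S (AdicCompletion (maximalIdeal S) N)) ≤
            (maximalIdeal S ^ n • ⊤ : Submodule S (AdicCompletion (maximalIdeal S) Q)).comap
              ((AdicCompletion.map (maximalIdeal S) g).restrictScalars S) := by
            rw [Submodule.smul_le]
            intro r hr z _
            rw [Submodule.mem_comap, map_smul]
            exact Submodule.smul_mem_smul hr trivial
          exact h8 h5
        rw [AdicCompletion.pow_smul_top_eq_ker_eval (IsNoetherian.noetherian (maximalIdeal S))] at h7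
        exact h7
      conv_rhs => rw [h3]
      rw [map_add, map_add, h6, add_zero, AdicCompletion.map_of, AdicCompletion.eval_of]
      rfl
    obtain ⟨z, hz, hgz⟩ : ∃ z ∈ (maximalIdeal S ^ n • ⊤ : Submodule S N), g z = g x0 := by
      have h2 : (maximalIdeal S ^ n • ⊤ : Submodule S Q) =
          (maximalIdeal S ^ n • ⊤ : Submodule S N).map g := by
        rw [Submodule.map_smul'', Submodule.map_top, LinearMap.range_eq_top.mpr hg]
      rw [h2] at h1
      obtain ⟨z, hz, hz'⟩ := h1
      exact ⟨z, hz, hz'⟩
    obtain ⟨w, hw⟩ : ∃ w, f w = x0 - z := (hfg (x0 - z)).mp (by rw [map_sub, hgz, sub_self])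
    have h9 : y - AdicCompletion.of (maximalIdeal S) N (f w) ∈
        (maximalIdeal S ^ n • ⊤ : Submodule S (AdicCompletion (maximalIdeal S) N)) := by
      rw [AdicCompletion.pow_smul_top_eq_ker_eval (IsNoetherian.noetherian (maximalIdeal S)),
        LinearMap.mem_ker, map_sub, ← hx0, AdicCompletion.eval_of, hw]
      change Submodule.Quotient.mk _ - Submodule.Quotient.mk _ = _
      rw [← Submodule.Quotient.mk_sub, Submodule.Quotient.mk_eq_zero, sub_sub_cancel]
      exact hz
    have h10 : AdicCompletion.of (maximalIdeal S) N (f w) ∈ I :=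
      ⟨AdicCompletion.of (maximalIdeal S) M w, AdicCompletion.map_of _ _ _⟩
    have h11 : (Submodule.Quotient.mk y : AdicCompletion (maximalIdeal S) N ⧸ I) =
        I.mkQ (y - AdicCompletion.of (maximalIdeal S) N (f w)) := by
      rw [map_sub, Submodule.mkQ_apply I (AdicCompletion.of (maximalIdeal S) N (f w)),
        (Submodule.Quotient.mk_eq_zero I).mpr h10, sub_zero]
      rfl
    rw [h11]
    have h12 : (maximalIdeal S ^ n • ⊤ : Submodule S (AdicCompletion (maximalIdeal S) N)) ≤
        (maximalIdeal S ^ n • ⊤ :
          Submodule S (AdicCompletion (maximalIdeal S) N ⧸ I)).comap I.mkQ := by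
      rw [Submodule.smul_le]
      intro r hr z _
      rw [Submodule.mem_comap, map_smul]
      exact Submodule.smul_mem_smul hr trivial
    exact h12 h9

end K148.CompExact
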