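import Groth.Agent.EGA418.K148.PSFrob
import Groth.Agent.CalgB.BddDer4
import Groth.Agent.CalgB.BddDer2
import Groth.Agent.Ega41.Cartier2
import Groth.Agent.Ega4late.H540.DomainDer
import Mathlib.LinearAlgebra.Basis.VectorSpace

/-!
# Differentials of the fraction field of a power series ring

`k` a field, `F` the fraction field of `k⟦T_1, …, T_d⟧`.
* `injective_mapBaseChange`: `F ⊗_k Ω_k → Ω_F` is injective;
* `hasIndex`: if `[k : k^p]` is finite then its cokernel `Ω_{F/k}` has dimension `d`.
-/

set_option autoImplicit false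
universe u

namespace K148.FracIndex

open KaehlerDifferential TensorProduct Module
open Groth.Agent Groth.Agent.Ega41.LinIndex Groth.Agent.Ega41.Cartier2

/-- If the derivations of `k` extend to `F`, then `F ⊗_k Ω_k → Ω_F` is injective. -/
theorem injective_of_extend {k F : Type u} [Field k] [Field F] [Algebra k F]
    (h : ∀ D : Derivation ℤ k k, ∃ D' : Derivation ℤ F F, ∀ a, D' (algebraMap k F a) = algebraMap k F (D a)) :
    Function.Injective (mapBaseChange ℤ k F) := by
  classical
  let b := Basis.ofVectorSpace k (Ω[k⁄ℤ])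
  rw [injective_iff_map_eq_zero]
  intro z hz
  apply (b.baseChange F).ext_elem
  intro i
  rw [map_zero, Finsupp.zero_apply]
  obtain ⟨D', hD'⟩ := h ((b.coord i).compDer (KaehlerDifferential.D ℤ k))
  have h1 : (b.baseChange F).coord i = D'.liftKaehlerDifferential ∘ₗ mapBaseChange ℤ k F := by
    have h2 : ∀ ω : Ω[k⁄ℤ], (b.baseChange F).coord i (1 ⊗ₜ ω) =
        D'.liftKaehlerDifferential (mapBaseChange ℤ k F (1 ⊗ₜ ω)) := by
      intro ω
      have hω : ω ∈ Submodule.span k (Set.range (KaehlerDifferential.D ℤ k)) := by
        rw [KaehlerDifferential.span_range_derivation]; trivial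
      induction hω using Submodule.span_induction with
      | mem x hx =>
        obtain ⟨a, rfl⟩ := hx
        rw [mapBaseChange_tmul, one_smul, KaehlerDifferential.map_D,
          Derivation.liftKaehlerDifferential_comp_D, hD']
        rw [Basis.coord_apply, Basis.baseChange_repr_tmul, ← Basis.coord_apply,
          Algebra.algebraMap_eq_smul_one]
        rfl
      | zero => rw [tmul_zero, map_zero, map_zero, map_zero]
      | add x y _ _ hx hy => rw [tmul_add, map_add, map_add, map_add, hx, hy]
      | smul a x _ hx =>
        rw [tmul_smul, ← algebraMap_smul F a, map_smul, map_smul, map_smul, hx]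
    ext ω
    exact h2 _
  have h3 := LinearMap.congr_fun h1 z
  rw [LinearMap.comp_apply, hz, map_zero, Basis.coord_apply] at h3
  exact h3

/-- Derivations extend to the fraction field. -/
theorem exists_extend_frac {S F : Type*} [CommRing S] [IsDomain S] [Field F] [Algebra S F]
    [IsFractionRing S F] (D : CalgB.BddDer.DerZ S) :
    ∃ E : Derivation ℤ F F, ∀ s, E (algebraMap S F s) = algebraMap S F (D s) := by
  have het : Algebra.FormallyEtale S F := Algebra.FormallyEtale.of_isLocalization (nonZeroDivisors S)
  exact CalgB.BddDer.exists_extend_of_formallyEtale ((Algebra.linearMap S F).compDer D)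

section

variable (k : Type u) [Field k] (d : ℕ) (F : Type u) [Field F] [Algebra (MvPowerSeries (Fin d) k) F]
  [IsFractionRing (MvPowerSeries (Fin d) k) F] [Algebra k F] [IsScalarTower k (MvPowerSeries (Fin d) k) F]

include d in
theorem injective_mapBaseChange : Function.Injective (mapBaseChange ℤ k F) := by
  have hdom : IsDomain (MvPowerSeries (Fin d) k) := NoZeroDivisors.to_isDomain _
  refine injective_of_extend fun D => ?_
  obtain ⟨E, hE⟩ := exists_extend_frac (F := F) (CalgB.BddDer.psDer (Fin d) D)
  refine ⟨E, fun a => ?_⟩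
  rw [IsScalarTower.algebraMap_apply k (MvPowerSeries (Fin d) k) F, hE,
    IsScalarTower.algebraMap_apply k (MvPowerSeries (Fin d) k) F]
  change algebraMap _ F (CalgB.BddDer.psDer (Fin d) D (MvPowerSeries.C a)) = algebraMap _ F (MvPowerSeries.C (D a))
  congr 1
  ext n
  classical
  rw [CalgB.BddDer.coeff_psDer, MvPowerSeries.coeff_C, MvPowerSeries.coeff_C]
  split_ifs
  · rfl
  · exact map_zero D

/-- The partial derivatives of the fraction field. -/
theorem exists_pderiv : ∃ E : Fin d → Derivation ℤ F F, (∀ i (a : k), E i (algebraMap k F a) = 0) ∧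
    ∀ i j, E i (algebraMap (MvPowerSeries (Fin d) k) F (MvPowerSeries.X j)) = if i = j then 1 else 0 := by
  classical
  have hdom : IsDomain (MvPowerSeries (Fin d) k) := NoZeroDivisors.to_isDomain _
  choose E hE using fun i : Fin d => exists_extend_frac (F := F) (CalgB.BddDer.mkDer
      (fun f => MvPowerSeries.pderiv k i f) (fun f g => map_add _ f g)
      (fun f g => (MvPowerSeries.pderiv k i).leibniz f g))
  refine ⟨E, fun i a => ?_, fun i j => ?_⟩
  · rw [IsScalarTower.algebraMap_apply k (MvPowerSeries (Fin d) k) F, hE]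
    change algebraMap _ F (MvPowerSeries.pderiv k i (algebraMap k _ a)) = 0
    rw [Derivation.map_algebraMap, map_zero]
  · rw [hE]
    change algebraMap _ F (MvPowerSeries.pderiv k i (MvPowerSeries.X j)) = _
    rw [MvPowerSeries.pderiv_X]
    by_cases hij : i = j
    · subst hij; simp
    · rw [if_neg hij, Pi.single_eq_of_ne (fun h => hij h.symm), map_zero]

/-- `Ω_{F/k}` has dimension `d` if `[k : k^p]` is finite. -/
theorem finrank_kaehler (p : ℕ) [Fact p.Prime] [CharP k p] (hk : (frobenius k p).Finite) :
    Module.Finite F (Ω[F⁄k]) ∧ Module.finrank F (Ω[F⁄k]) = d := by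
  classical
  have hdom : IsDomain (MvPowerSeries (Fin d) k) := NoZeroDivisors.to_isDomain _
  obtain ⟨E, hE1, hE2⟩ := exists_pderiv k d F
  let T : Fin d → F := fun i => algebraMap (MvPowerSeries (Fin d) k) F (MvPowerSeries.X i)
  let w : Fin d → Ω[F⁄k] := fun i => KaehlerDifferential.D k F (T i)
  have hli : LinearIndependent F w := by
    rw [Fintype.linearIndependent_iff]
    intro c hc i
    let E' : Derivation k F F := Derivation.mk'
      { toFun := E i, map_add' := (E i).map_add, map_smul' := fun a x => by
          rw [Algebra.smul_def, (E i).leibniz, hE1, smul_zero, add_zero, RingHom.id_apply,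
            smul_eq_mul, ← Algebra.smul_def] } (fun a b => (E i).leibniz a b)
    have hE' : ∀ x, E' x = E i x := fun _ => rfl
    have h1 := congrArg E'.liftKaehlerDifferential hc
    rw [map_zero, map_sum] at h1
    simp only [map_smul, w, Derivation.liftKaehlerDifferential_comp_D, hE', T, hE2, smul_eq_mul,
      mul_ite, mul_one, mul_zero, Finset.sum_ite_eq, Finset.mem_univ, if_true] at h1
    exact h1
  have hspan : ⊤ ≤ Submodule.span F (Set.range w) := by
    set N := Submodule.span F (Set.range w) with hN
    have h0 : ∀ D : Derivation k F (Ω[F⁄k] ⧸ N), (∀ i, D (T i) = 0) → ∀ x, D x = 0 := by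
      intro D hD x
      have h1 : ∀ f : MvPowerSeries (Fin d) k, D (algebraMap _ F f) = 0 := fun f =>
        PSFrob.derivation_eq_zero p hk (D.compAlgebraMap (MvPowerSeries (Fin d) k)) hD f
      obtain ⟨a, b, hb, rfl⟩ := IsFractionRing.div_surjective (A := MvPowerSeries (Fin d) k) x
      rw [Derivation.leibniz_div, h1, h1]
      simp
    rw [← KaehlerDifferential.span_range_derivation, Submodule.span_le]
    rintro _ ⟨x, rfl⟩
    have h2 := h0 (N.mkQ.compDer (KaehlerDifferential.D k F)) (fun i => by
      change N.mkQ (w i) = 0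
      rw [Submodule.mkQ_apply, Submodule.Quotient.mk_eq_zero]
      exact Submodule.subset_span ⟨i, rfl⟩) x
    change N.mkQ (KaehlerDifferential.D k F x) = 0 at h2
    rw [Submodule.mkQ_apply, Submodule.Quotient.mk_eq_zero] at h2
    exact h2
  let B := Basis.mk hli hspan
  exact ⟨Module.Finite.of_basis B, by rw [Module.finrank_eq_card_basis B, Fintype.card_fin]⟩

/-- The index of `F ⊗_k Ω_k → Ω_F` is `d` if `[k : k^p]` is finite. -/
theorem hasIndex (p : ℕ) [Fact p.Prime] [CharP k p] (hk : (frobenius k p).Finite) :
    HasIndex (mapBaseChange ℤ k F) d := by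
  obtain ⟨h1, h2⟩ := finrank_kaehler k d F p hk
  have hker : LinearMap.ker (mapBaseChange ℤ k F) = ⊥ :=
    LinearMap.ker_eq_bot.mpr (injective_mapBaseChange k d F)
  refine ⟨by rw [hker]; infer_instance, Module.Finite.equiv (cokerEquiv k F).symm, ?_⟩
  rw [(cokerEquiv k F).finrank_eq, h2, hker, finrank_bot]
  simp

end

end K148.FracIndex
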