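import Groth.Agent.EGA418.K148.PSFrob
import Groth.Agent.Ega4late.H544.Struct
import Mathlib.RingTheory.Kaehler.Basic

/-!
# Finiteness of the differentials of a complete local algebra, `[k : k^p]` finite
-/

set_option autoImplicit false
universe u

namespace K148.OmegaFin

open KaehlerDifferential TensorProduct IsLocalRing
open Groth.Agent

/-- Finiteness of the differentials of a finite algebra over an algebra with finite differentials. -/
theorem finite_of_finite (k S A : Type*) [CommRing k] [CommRing S] [CommRing A] [Algebra k S]
    [Algebra S A] [Algebra k A] [IsScalarTower k S A] [Module.Finite S A]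
    [Module.Finite S (Ω[S⁄k])] : Module.Finite A (Ω[A⁄k]) := by
  have h1 : Function.Exact (mapBaseChange k S A) (KaehlerDifferential.map k S A A) :=
    exact_mapBaseChange_map k S A
  have h2 : (LinearMap.range (mapBaseChange k S A)).FG := by
    rw [← Submodule.map_top]
    exact (Module.Finite.fg_top (R := A) (M := A ⊗[S] Ω[S⁄k])).map _
  have h3 : (LinearMap.ker (KaehlerDifferential.map k S A A)).FG := by
    rw [LinearMap.exact_iff.mp h1]
    exact h2
  refine ⟨Submodule.fg_of_fg_map_of_fg_inf_ker (KaehlerDifferential.map k S A A) ?_ ?_⟩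
  · rw [Submodule.map_top, LinearMap.range_eq_top.mpr (KaehlerDifferential.map_surjective k S A)]
    exact Module.Finite.fg_top
  · rw [top_inf_eq]
    exact h3

theorem finite_powerSeries (k : Type u) [Field k] (p : ℕ) [Fact p.Prime] [CharP k p]
    (hk : (frobenius k p).Finite) (d : ℕ) :
    Module.Finite (MvPowerSeries (Fin d) k) (Ω[MvPowerSeries (Fin d) k⁄k]) := by
  refine ⟨?_⟩
  rw [← PSFrob.span_range_D_X p hk]
  exact Submodule.fg_span (Set.finite_range _)

/-- `Ω_{A/k}` is a finite `A`-module. -/
theorem finite_kaehler (k A : Type u) [Field k] (p : ℕ) [Fact p.Prime] [CharP k p]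
    (hk : (frobenius k p).Finite) [CommRing A] [IsLocalRing A] [IsNoetherianRing A]
    [Algebra k A] [IsAdicComplete (maximalIdeal A) A] [Module.Finite k (ResidueField A)] :
    Module.Finite A (Ω[A⁄k]) := by
  obtain ⟨d, m, _, _, _, _, f, hf, hX⟩ := Ega4late.H544.Struct.exists_struct k A
  have h := finite_powerSeries k p hk d
  exact finite_of_finite k (MvPowerSeries (Fin d) k) A

end K148.OmegaFin
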