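import Groth.Agent.EGA418.K148.RankGe
import Groth.Agent.EGA418.K148.OmegaFin
import Groth.Agent.Ega4late.H543.Backward
import Groth.Agent.Ega1.LimitSystem
import Groth.Agent.S2117
import Mathlib.RingTheory.Etale.Kaehler
import Mathlib.RingTheory.Unramified.Field

/-!
# The rank of the differentials of a complete local domain with separable fraction field, and
Noether normalisation unramified at the generic point
-/

set_option autoImplicit false
universe u

namespace K148.RankEq

open KaehlerDifferential TensorProduct IsLocalRing
open Groth.Agent Groth.Agent.Ega41.LinIndex Groth.Agent.Ega41.Cartier2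

section

variable (p : ℕ) [Fact p.Prime] (k C : Type u) [Field k] [CharP k p]
  (hk : (frobenius k p).Finite) [CommRing C] [IsDomain C] [IsNoetherianRing C]
  [IsLocalRing C] [Algebra k C] [IsAdicComplete (maximalIdeal C) C]
  [Module.Finite k (ResidueField C)] (n : ℕ) (hn : ringKrullDim C = n)

include hk hn in
/-- The index of the fraction field of a complete local domain. -/
theorem hasIndex_frac (L : Type u) [Field L] [Algebra C L] [IsFractionRing C L] [Algebra k L]
    [IsScalarTower k C L] : HasIndex (mapBaseChange ℤ k L) n := by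
  obtain ⟨F, _, _, _, _, _, _, _, _⟩ := RankGe.exists_fields k C L n hn
  exact RankGe.hasIndex_of_finite (FracIndex.hasIndex k n F p hk)

include hk hn in
theorem finrank_frac (L : Type u) [Field L] [Algebra C L] [IsFractionRing C L] [Algebra k L]
    [IsScalarTower k C L] (h : Function.Injective (mapBaseChange ℤ k L)) :
    Module.finrank L (Ω[L⁄k]) = n := by
  obtain ⟨h1, h2, h3⟩ := hasIndex_frac p k C hk n hn L
  rw [(cokerEquiv k L).finrank_eq, LinearMap.ker_eq_bot.mpr h, finrank_bot] at h3
  simpa using h3

include hk hn in
theorem finrank_hat (L : Type u) [Field L] [Algebra C L] [IsFractionRing C L] [Algebra k L]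
    [IsScalarTower k C L] (h : Function.Injective (mapBaseChange ℤ k L)) :
    Module.finrank L (L ⊗[C] AdicCompletion (maximalIdeal C) Ω[C⁄k]) = n := by
  have hfin : Module.Finite C (Ω[C⁄k]) := OmegaFin.finite_kaehler k C p hk
  have hcomp : IsAdicComplete (maximalIdeal C) (Ω[C⁄k]) :=
    Ega1.LimitSystem.isAdicComplete_of_finite
  have hloc : IsLocalization (nonZeroDivisors C) L := inferInstance
  have het : Algebra.FormallyEtale C L := Algebra.FormallyEtale.of_isLocalization (nonZeroDivisors C)
  let e1 : L ⊗[C] Ω[C⁄k] ≃ₗ[L] L ⊗[C] AdicCompletion (maximalIdeal C) Ω[C⁄k] :=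
    (AdicCompletion.ofLinearEquiv (maximalIdeal C) (Ω[C⁄k])).baseChange C L _ _
  rw [← e1.finrank_eq, (tensorKaehlerEquivOfFormallyEtale k C L).finrank_eq]
  exact finrank_frac p k C hk n hn L h

include hk hn in
/-- Noether normalisation étale at the generic point, in characteristic `p`. -/
theorem exists_unramified (hC : (⊥ : Ideal C) ≠ maximalIdeal C)
    (h : ∀ (L : Type u) [Field L] [Algebra C L] [IsFractionRing C L] [Algebra k L]
      [IsScalarTower k C L], Algebra.IsGeometricallyReduced k L) :
    ∃ (_ : Algebra (MvPowerSeries (Fin n) k) C) (_ : IsScalarTower k (MvPowerSeries (Fin n) k) C),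
        IsLocalHom (algebraMap (MvPowerSeries (Fin n) k) C) ∧
        Function.Injective (algebraMap (MvPowerSeries (Fin n) k) C) ∧
        Module.Finite (MvPowerSeries (Fin n) k) C ∧
          Algebra.IsUnramifiedAt (MvPowerSeries (Fin n) k) (⊥ : Ideal C) := by
  have hbot : (⊥ : Ideal C).IsPrime := Ideal.isPrime_bot
  have hfr : IsFractionRing C (⊥ : Ideal C).ResidueField := inferInstance
  have hinj := (Groth.Agent.S2117.result (k := k) (K := (⊥ : Ideal C).ResidueField) p).mp
    (h (⊥ : Ideal C).ResidueField)
  have hrank := finrank_hat p k C hk n hn (⊥ : Ideal C).ResidueField hinj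
  obtain ⟨i1, i2, h1, h2, h3⟩ := Ega4late.H543.Backward.exists_finite_etaleAt k C n hn
    (⊥ : Ideal C) hC ⟨⊥, by
      rw [IsDomain.minimalPrimes_eq_singleton_bot]; rfl, le_rfl, by
      rw [← hn]
      exact ringKrullDim_eq_of_ringEquiv (RingEquiv.quotientBot C)⟩ hrank
  refine ⟨i1, i2, h1, ?_, h2, ?_⟩
  · have hdom : IsDomain (MvPowerSeries (Fin n) k) := NoZeroDivisors.to_isDomain _
    exact CalgA.FinitePow.injective_of_finite_of_dim (algebraMap (MvPowerSeries (Fin n) k) C)
      (RingHom.finite_algebraMap.mpr h2) n (CalgB.PowField.ringKrullDim_eq ..).le hn.ge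
  · have : Algebra.FormallyEtale (MvPowerSeries (Fin n) k) (Localization.AtPrime (⊥ : Ideal C)) := h3
    exact inferInstanceAs
      (Algebra.FormallyUnramified (MvPowerSeries (Fin n) k) (Localization.AtPrime (⊥ : Ideal C)))

end

theorem isFractionRing_of_eq {C : Type*} [CommRing C] (M : Submonoid C) (hM : M = nonZeroDivisors C)
    (L : Type*) [CommRing L] [Algebra C L] (h : IsLocalization M L) : IsFractionRing C L := by
  subst hM
  exact h

/-- Noether normalisation unramified at the generic point, in characteristic zero. -/
theorem exists_unramified_zero (k C : Type u) [Field k] [CharZero k] [CommRing C] [IsDomain C]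
    [IsNoetherianRing C] [IsLocalRing C] [Algebra k C] [IsAdicComplete (maximalIdeal C) C]
    [Module.Finite k (ResidueField C)] (n : ℕ) (hn : ringKrullDim C = n) :
    ∃ (_ : Algebra (MvPowerSeries (Fin n) k) C) (_ : IsScalarTower k (MvPowerSeries (Fin n) k) C),
        IsLocalHom (algebraMap (MvPowerSeries (Fin n) k) C) ∧
        Function.Injective (algebraMap (MvPowerSeries (Fin n) k) C) ∧
        Module.Finite (MvPowerSeries (Fin n) k) C ∧
          Algebra.IsUnramifiedAt (MvPowerSeries (Fin n) k) (⊥ : Ideal C) := by
  obtain ⟨m, x, hx, hdim, hinj, hloc, hfin⟩ := Ega41.NoethNorm.exists_powEval (k₀ := k) (A := C)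
  obtain rfl : m = n := by
    rw [hdim] at hn
    exact_mod_cast hn
  let w : MvPowerSeries (Fin m) k →ₐ[k] C := Ega41.PowEval.powEval (R := k) (maximalIdeal C) x hx
  let alg : Algebra (MvPowerSeries (Fin m) k) C := w.toRingHom.toAlgebra
  have hwalg : ∀ f : MvPowerSeries (Fin m) k, algebraMap _ C f = w f := fun f ↦ rfl
  have tow1 : IsScalarTower k (MvPowerSeries (Fin m) k) C := IsScalarTower.of_algebraMap_eq fun r ↦ by
    rw [hwalg, w.commutes]
  have hfinSR : Module.Finite (MvPowerSeries (Fin m) k) C := hfin
  refine ⟨alg, tow1, hloc, hinj, hfin, ?_⟩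
  have hdom : IsDomain (MvPowerSeries (Fin m) k) := NoZeroDivisors.to_isDomain _
  have hbot : (⊥ : Ideal C).IsPrime := Ideal.isPrime_bot
  let S := MvPowerSeries (Fin m) k
  let F := FractionRing S
  let L := Localization.AtPrime (⊥ : Ideal C)
  have hfr : IsFractionRing C L := isFractionRing_of_eq (⊥ : Ideal C).primeCompl
    Ideal.primeCompl_bot L Localization.isLocalization
  let fL : Field L := IsFractionRing.toField C
  have tow2 : IsScalarTower S C L := inferInstance
  have hinjSL : Function.Injective (algebraMap S L) := by
    rw [IsScalarTower.algebraMap_eq S C L]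
    exact (IsFractionRing.injective C L).comp hinj
  let _ : Algebra F L := (IsFractionRing.lift (K := F) hinjSL).toAlgebra
  have tow3 : IsScalarTower S F L := IsScalarTower.of_algebraMap_eq fun s =>
    (IsFractionRing.lift_algebraMap hinjSL s).symm
  have hfinFL : Module.Finite F L := Ega4late.H540.DomainDer.finite_fractionRing S C F L
  have hchar : CharZero F := charZero_of_injective_algebraMap (algebraMap k F).injective
  have hsep : Algebra.IsSeparable F L := inferInstance
  have hunr : Algebra.FormallyUnramified F L := Algebra.FormallyUnramified.of_isSeparable F L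
  have hunr' : Algebra.FormallyUnramified S F :=
    Algebra.FormallyUnramified.of_isLocalization (nonZeroDivisors S)
  exact Algebra.FormallyUnramified.comp S F L

end K148.RankEq
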