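import Groth.Agent.Ega41.OmegaProj
import Groth.Agent.S2654
import Groth.Agent.S2038
import Groth.Agent.CalgC.PopGlue
import Groth.Agent.EGA418.K148.RankEq
import Mathlib.RingTheory.LocalRing.Module

/-!
# Freeness of the differentials of a geometrically regular local ring (finite differentials)
-/

set_option autoImplicit false
universe u

namespace K148.FreeReg

open KaehlerDifferential TensorProduct IsLocalRing
open Groth.Agent

section Local

variable {A B : Type u} [CommRing A] [CommRing B] [Algebra A B]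

theorem mem_pow_of_mod {𝔫 : Ideal B} (h : CAlgX.IsAdicFormallySmooth A B 𝔫) (F : Type u)
    [AddCommGroup F] [Module B F] (f : F →ₗ[B] Ω[B⁄A])
    (hs : ∀ y : Ω[B⁄A], ∃ x : F, y - f x ∈ (𝔫 • ⊤ : Submodule B Ω[B⁄A]))
    (hi : ∀ x : F, f x ∈ (𝔫 • ⊤ : Submodule B Ω[B⁄A]) → x ∈ (𝔫 • ⊤ : Submodule B F))
    (n : ℕ) (x : F) (hx : f x ∈ (𝔫 ^ n • ⊤ : Submodule B Ω[B⁄A])) :
    x ∈ (𝔫 ^ n • ⊤ : Submodule B F) := by
  rcases Nat.eq_zero_or_pos n with rfl | hn
  · simp
  let : Module A F := Module.compHom F (algebraMap A B)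
  have : IsScalarTower A B F := ⟨fun a b x => by
    change (a • b) • x = algebraMap A B a • b • x
    rw [Algebra.smul_def, mul_smul]⟩
  let g : (F ⧸ (𝔫 ^ n • ⊤ : Submodule B F)) →ₗ[B] (Ω[B⁄A] ⧸ (𝔫 ^ n • ⊤ : Submodule B Ω[B⁄A])) :=
    Submodule.mapQ _ _ f (by
      rw [← Submodule.map_le_iff_le_comap, Submodule.map_smul'']
      exact smul_mono_right _ le_top)
  have hg : Function.Surjective g := by
    intro y
    obtain ⟨y, rfl⟩ := Submodule.Quotient.mk_surjective _ y
    obtain ⟨x, hx⟩ := Ega41.OmegaProj.exists_sub_mem_pow f hs n y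
    refine ⟨Submodule.Quotient.mk x, ?_⟩
    rw [Submodule.mapQ_apply, eq_comm, Submodule.Quotient.eq]
    exact hx
  have hkill : ∀ b ∈ 𝔫 ^ n, ∀ m : (F ⧸ (𝔫 ^ n • ⊤ : Submodule B F)), b • m = 0 := by
    intro b hb m
    obtain ⟨m, rfl⟩ := Submodule.Quotient.mk_surjective _ m
    rw [← Submodule.Quotient.mk_smul, Submodule.Quotient.mk_eq_zero]
    exact Submodule.smul_mem_smul hb trivial
  obtain ⟨D', hD'⟩ := Ega41.OmegaProj.exists_derivation_lift h n hkill g hg
    ((Submodule.mkQ (𝔫 ^ n • ⊤ : Submodule B Ω[B⁄A])).compDer (KaehlerDifferential.D A B))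
  have hgs : g ∘ₗ D'.liftKaehlerDifferential = Submodule.mkQ (𝔫 ^ n • ⊤ : Submodule B Ω[B⁄A]) := by
    apply Derivation.liftKaehlerDifferential_unique
    ext b
    change g (D'.liftKaehlerDifferential (KaehlerDifferential.D A B b)) = _
    rw [Derivation.liftKaehlerDifferential_comp_D]
    exact hD' b
  refine Ega41.OmegaProj.mem_pow_smul_of_section f n D'.liftKaehlerDifferential hi ?_ hn x hx
  intro y z hz
  rw [← Submodule.Quotient.eq]
  have h1 := DFunLike.congr_fun hgs y
  rw [LinearMap.comp_apply, ← hz] at h1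
  exact h1

/-- If `Ω_{B/A}` is finite and `B` Noetherian local is formally smooth for the topology of the
maximal ideal, then `Ω_{B/A}` is free. -/
theorem free_kaehler [IsLocalRing B] [IsNoetherianRing B]
    (h : CAlgX.IsAdicFormallySmooth A B (maximalIdeal B)) [Module.Finite B (Ω[B⁄A])] :
    Module.Free B (Ω[B⁄A]) := by
  classical
  let K := ResidueField B
  let r := Module.finrank K (K ⊗[B] Ω[B⁄A])
  let b : Module.Basis (Fin r) K (K ⊗[B] Ω[B⁄A]) := Module.finBasisOfFinrankEq K (K ⊗[B] Ω[B⁄A]) rfl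
  have hsurj : Function.Surjective (TensorProduct.mk B K (Ω[B⁄A]) 1) :=
    TensorProduct.mk_surjective B (Ω[B⁄A]) K residue_surjective
  choose ω hω using fun i ↦ hsurj (b i)
  have hspan : Submodule.span B (Set.range ω) = ⊤ := span_eq_top_of_tmul_eq_basis ω b hω
  let f : (Fin r → B) →ₗ[B] Ω[B⁄A] := Fintype.linearCombination B ω
  have hfs : Function.Surjective f := by
    rw [← LinearMap.range_eq_top, Fintype.range_linearCombination, hspan]
  have hker : ∀ y : Ω[B⁄A], (1 : K) ⊗ₜ[B] y = 0 ↔ y ∈ (maximalIdeal B • ⊤ : Submodule B Ω[B⁄A]) := by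
    intro y
    rw [← LinearMap.ker_tensorProductMk]
    rfl
  have hf : ∀ x : Fin r → B, (1 : K) ⊗ₜ[B] f x = ∑ i, residue B (x i) • b i := by
    intro x
    simp only [f, Fintype.linearCombination_apply, tmul_sum]
    refine Finset.sum_congr rfl fun i _ => ?_
    rw [tmul_smul, ← IsLocalRing.ResidueField.algebraMap_eq, algebraMap_smul, ← hω i]
    rfl
  have hi : ∀ x : Fin r → B, f x ∈ (maximalIdeal B • ⊤ : Submodule B Ω[B⁄A]) →
      x ∈ (maximalIdeal B • ⊤ : Submodule B (Fin r → B)) := by
    intro x hx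
    rw [← hker, hf] at hx
    have h1 := (Fintype.linearIndependent_iff.mp b.linearIndependent) _ hx
    have h2 : x = ∑ i, x i • (Pi.single i 1 : Fin r → B) := by
      ext j
      simp [Finset.sum_apply, Pi.single_apply]
    rw [h2]
    refine Submodule.sum_mem _ fun i _ => Submodule.smul_mem_smul ?_ trivial
    exact (residue_eq_zero_iff _).mp (h1 i)
  have hfi : Function.Injective f := by
    rw [← LinearMap.ker_eq_bot, LinearMap.ker_eq_bot']
    intro x hx
    have hH : IsHausdorff (maximalIdeal B) (Fin r → B) := inferInstance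
    apply hH.haus
    intro n
    rw [SModEq.zero]
    apply mem_pow_of_mod h (Fin r → B) f (fun y => ?_) hi n x (hx ▸ zero_mem _)
    obtain ⟨z, rfl⟩ := hfs y
    exact ⟨z, by rw [sub_self]; exact zero_mem _⟩
  exact Module.Free.of_equiv (LinearEquiv.ofBijective f ⟨hfi, hfs⟩)

end Local

/-- The fraction field of a geometrically regular domain is geometrically reduced. -/
theorem geomReduced_frac (k B : Type u) [Field k] [CommRing B] [IsDomain B] [IsNoetherianRing B]
    [Algebra k B] (h : CAlg.IsGeometricallyRegular k B) (L : Type u) [Field L] [Algebra B L]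
    [IsFractionRing B L] [Algebra k L] [IsScalarTower k B L] :
    Algebra.IsGeometricallyReduced k L := by
  have hbot : (⊥ : Ideal B).IsPrime := Ideal.isPrime_bot
  have h1 := CalgC.PopGlue.isGeometricallyRegular_localization h (⊥ : Ideal B)
  have h2 := S2654.isGeometricallyReduced_of_isGeometricallyRegular k _ h1
  have h3 : IsFractionRing B (Localization.AtPrime (⊥ : Ideal B)) :=
    RankEq.isFractionRing_of_eq (⊥ : Ideal B).primeCompl Ideal.primeCompl_bot _
      Localization.isLocalization
  let e : L ≃ₐ[B] Localization.AtPrime (⊥ : Ideal B) :=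
    IsLocalization.algEquiv (nonZeroDivisors B) L (Localization.AtPrime (⊥ : Ideal B))
  exact Algebra.IsGeometricallyReduced.of_injective (e.restrictScalars k).toAlgHom e.injective

end K148.FreeReg
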