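import Groth.Agent.Ega4late.H543.Backward
import Groth.Agent.Ega4late.H543.Forward
import Groth.Agent.Ega4late.H540.RankLower

/-!
# Generators of the completed differentials at a prime and finite unramified power series maps

`k` a field, `A` a complete Noetherian local `k`-algebra with residue field finite over `k`, `Ω̂` the
completed module of differentials, `p` a prime ideal.

* `exists_extend`: extending a family of elements of `m` to a family whose differentials span the
  fibre of `Ω̂` at `p`;
* `isUnramifiedAt_of_span`: if the `dT_i` span the fibre at `p`, then `A` is unramified over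
  `k⟦T⟧` at `p`;
* `span_localized_eq_top`: conversely.
-/

set_option autoImplicit false

universe u

namespace K148.Gen

open IsLocalRing KaehlerDifferential TensorProduct
open Groth.Agent Groth.Agent.Ega4late.H543

section select

variable {k A K V : Type*} [CommRing k] [CommRing A] [IsLocalRing A] [Algebra k A]
  [Field K] [Algebra A K] [AddCommGroup V] [Module k V] [Module A V] [Module K V]
  [IsScalarTower A K V]

/-- Extending a family of elements of the maximal ideal to a family with spanning differentials. -/
theorem exists_extend (δ : Derivation k A V) (p : Ideal A) [p.IsPrime]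
    (hp : p ≠ maximalIdeal A) (hK : ∀ a ∉ p, algebraMap A K a ≠ 0)
    (hδ : Submodule.span K (Set.range δ) = ⊤) [FiniteDimensional K V] (d : ℕ) :
    ∀ (i m : ℕ) (_ : m = i + d) (x : Fin i → A), (∀ j, x j ∈ maximalIdeal A) →
      Module.finrank K V ≤ Module.finrank K (Submodule.span K (Set.range fun j => δ (x j))) + d →
      ∃ y : Fin m → A, (∀ j, y j ∈ maximalIdeal A) ∧
        Submodule.span K (Set.range fun j => δ (y j)) = ⊤ ∧ Set.range x ⊆ Set.range y := by
  induction d with
  | zero =>
    rintro i m rfl x hx hr
    exact ⟨x, hx, Submodule.eq_top_of_finrank_eq (le_antisymm (Submodule.finrank_le _) hr), le_rfl⟩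
  | succ d ih =>
    intro i m hm x hx hr
    set W : Submodule K V := Submodule.span K (Set.range fun j => δ (x j)) with hW
    have hrange : ∀ a, (Set.range fun j => δ ((Fin.cons a x : Fin (i + 1) → A) j)) =
        insert (δ a) (Set.range fun j => δ (x j)) := by
      intro a
      have h1 : (fun j => δ ((Fin.cons a x : Fin (i + 1) → A) j)) =
          (Fin.cons (δ a) (fun j => δ (x j)) : Fin (i + 1) → V) := by
        ext j
        refine Fin.cases ?_ (fun j => ?_) j <;> simp
      rw [h1, Fin.range_cons]
    obtain ⟨a, ha, har⟩ : ∃ a ∈ maximalIdeal A, Module.finrank K V ≤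
        Module.finrank K (Submodule.span K (Set.range fun j =>
          δ ((Fin.cons a x : Fin (i + 1) → A) j))) + d := by
      by_cases htop : W = ⊤
      · refine ⟨0, zero_mem _, ?_⟩
        have h1 : W ≤ Submodule.span K (Set.range fun j => δ ((Fin.cons 0 x : Fin (i + 1) → A) j)) := by
          rw [hrange]
          exact Submodule.span_mono (Set.subset_insert _ _)
        rw [htop, top_le_iff] at h1
        rw [h1, finrank_top]
        exact Nat.le_add_right _ _
      · obtain ⟨a, ha, haW⟩ := Select.exists_notMem_of_ne_top δ p hp hK hδ W htop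
        refine ⟨a, ha, ?_⟩
        have h1 : W < Submodule.span K (Set.range fun j => δ ((Fin.cons a x : Fin (i + 1) → A) j)) := by
          rw [hrange]
          refine lt_of_le_of_ne (Submodule.span_mono (Set.subset_insert _ _)) fun h => haW ?_
          rw [h]
          exact Submodule.subset_span (Set.mem_insert _ _)
        have h2 := Submodule.finrank_lt_finrank_of_lt h1
        omega
    obtain ⟨y, hy1, hy2, hy3⟩ := ih (i + 1) m (by omega) (Fin.cons a x) (by
      intro j
      refine Fin.cases ?_ (fun j => ?_) j
      · simpa using ha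
      · simpa using hx j) har
    refine ⟨y, hy1, hy2, fun z hz => hy3 ?_⟩
    rw [Fin.range_cons]
    exact Set.mem_insert_of_mem _ hz

end select

section

/-- Generators of the localization bound the dimension of the fibre. -/
theorem finrank_fibre_le {A M : Type u} [CommRing A] [AddCommGroup M] [Module A M] (p : Ideal A)
    [p.IsPrime] (m : ℕ) (s : Fin m → LocalizedModule p.primeCompl M)
    (hs : Submodule.span (Localization.AtPrime p) (Set.range s) = ⊤) :
    Module.finrank p.ResidueField (p.ResidueField ⊗[A] M) ≤ m := by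
  let e1 : Localization.AtPrime p ⊗[A] M ≃ₗ[Localization.AtPrime p]
      LocalizedModule p.primeCompl M :=
    (IsLocalizedModule.isBaseChange p.primeCompl (Localization.AtPrime p)
      (LocalizedModule.mkLinearMap p.primeCompl M)).equiv
  let e2 : p.ResidueField ⊗[Localization.AtPrime p] (Localization.AtPrime p ⊗[A] M) ≃ₗ[p.ResidueField]
      p.ResidueField ⊗[A] M :=
    TensorProduct.AlgebraTensorModule.cancelBaseChange A (Localization.AtPrime p) p.ResidueField
      p.ResidueField M
  let e3 : p.ResidueField ⊗[Localization.AtPrime p] LocalizedModule p.primeCompl M ≃ₗ[p.ResidueField]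
      p.ResidueField ⊗[A] M := (e1.symm.baseChange _ p.ResidueField _ _).trans e2
  rw [← e3.finrank_eq]
  have h1 := Submodule.baseChange_span (R := Localization.AtPrime p) (A := p.ResidueField) (Set.range s)
  rw [hs, Submodule.baseChange_top, ← Set.range_comp] at h1
  rw [← finrank_top, h1]
  exact (finrank_range_le_card _).trans (by simp)

variable (k A : Type u) [Field k] [CommRing A]
    [IsLocalRing A] [IsNoetherianRing A] [Algebra k A] [IsAdicComplete (maximalIdeal A) A]
    [Module.Finite k (ResidueField A)]

/-- The dimension bound. -/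
theorem dim_le_finrank (n : ℕ) (p : Ideal A) [p.IsPrime]
    (hq : ∃ q ∈ minimalPrimes A, q ≤ p ∧ ringKrullDim (A ⧸ q) = n) :
    n ≤ Module.finrank p.ResidueField
      (p.ResidueField ⊗[A] AdicCompletion (maximalIdeal A) Ω[A⁄k]) := by
  obtain ⟨q, hqmin, hqp, hdim⟩ := hq
  have hqprime : q.IsPrime := hqmin.1.1
  have hfinΩ : Module.Finite A (AdicCompletion (maximalIdeal A) Ω[A⁄k]) := OmegaHat.finite k A
  have h := Ega4late.H540.RankLower.ringKrullDim_quotient_le_rank k A p q hqp
  rw [hdim] at h
  change (n : WithBot ℕ∞) ≤ ((Cardinal.toENat (Module.rank p.ResidueField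
    (p.ResidueField ⊗[A] AdicCompletion (maximalIdeal A) Ω[A⁄k])) : ℕ∞) : WithBot ℕ∞) at h
  rw [← Module.finrank_eq_rank, map_natCast] at h
  exact_mod_cast h

/-- If the `dT_i` span the fibre at `p`, the power series map is unramified at `p`. -/
theorem isUnramifiedAt_of_span (m : ℕ) [Algebra (MvPowerSeries (Fin m) k) A]
    [IsScalarTower k (MvPowerSeries (Fin m) k) A] [Module.Finite (MvPowerSeries (Fin m) k) A]
    (p : Ideal A) [p.IsPrime]
    (hspan : Submodule.span p.ResidueField (Set.range fun i => Backward.δ k A p
      (algebraMap (MvPowerSeries (Fin m) k) A (MvPowerSeries.X i))) = ⊤) :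
    Algebra.IsUnramifiedAt (MvPowerSeries (Fin m) k) p := by
  obtain ⟨g, hg⟩ := OmegaHat.exists_lift_of_finite k A
    (KaehlerDifferential.map k (MvPowerSeries (Fin m) k) A A)
  have hgs : Function.Surjective g := by
    have h1 := KaehlerDifferential.map_surjective k (MvPowerSeries (Fin m) k) A
    rw [← hg] at h1
    exact Function.Surjective.of_comp h1
  apply Backward.isUnramifiedAt_of_subsingleton
  have hs : Function.Surjective (g.baseChange p.ResidueField) :=
    LinearMap.lTensor_surjective _ hgs
  have hz : g.baseChange p.ResidueField = 0 := by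
    refine LinearMap.ext_on hspan ?_
    rintro _ ⟨i, rfl⟩
    change g.baseChange p.ResidueField (Backward.δ k A p _) = 0
    rw [Backward.δ_apply, LinearMap.baseChange_tmul, ← LinearMap.comp_apply g, hg,
      KaehlerDifferential.map_D, Algebra.algebraMap_self, RingHom.id_apply,
      Derivation.map_algebraMap, TensorProduct.tmul_zero]
  refine ⟨fun a b => ?_⟩
  obtain ⟨a, rfl⟩ := hs a
  obtain ⟨b, rfl⟩ := hs b
  rw [hz]
  rfl

/-- Existence of a finite map from a power series ring, unramified at `p`. -/
theorem exists_finite_unramifiedAt (p : Ideal A) [p.IsPrime] (hp : p ≠ maximalIdeal A)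
    (hq : ∃ q ∈ minimalPrimes A, q ≤ p ∧ ringKrullDim (A ⧸ q) = ringKrullDim A) (m : ℕ)
    (hm : Module.finrank p.ResidueField
      (p.ResidueField ⊗[A] AdicCompletion (maximalIdeal A) Ω[A⁄k]) ≤ m) :
    ∃ (_ : Algebra (MvPowerSeries (Fin m) k) A) (_ : IsScalarTower k (MvPowerSeries (Fin m) k) A),
        IsLocalHom (algebraMap (MvPowerSeries (Fin m) k) A) ∧ Module.Finite (MvPowerSeries (Fin m) k) A ∧
          Algebra.IsUnramifiedAt (MvPowerSeries (Fin m) k) p := by
  have hfinΩ : Module.Finite A (AdicCompletion (maximalIdeal A) Ω[A⁄k]) := OmegaHat.finite k A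
  obtain ⟨n, hn⟩ : ∃ n : ℕ, ringKrullDim A = n := by
    have h1 : ((maximalIdeal A).height : WithBot ℕ∞) = ringKrullDim A :=
      maximalIdeal_height_eq_ringKrullDim
    have h2 : (maximalIdeal A).height ≠ ⊤ := Ideal.height_ne_top Ideal.IsPrime.ne_top'
    obtain ⟨n, hn⟩ := ENat.ne_top_iff_exists.mp h2
    exact ⟨n, by rw [← h1, ← hn]; rfl⟩
  rw [hn] at hq
  have hdim := dim_le_finrank k A n p hq
  have hht : ((maximalIdeal A).height : WithBot ℕ∞) = n := by
    rw [← hn]; exact maximalIdeal_height_eq_ringKrullDim
  have hht' : (maximalIdeal A).height = n := by exact_mod_cast hht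
  have hK : ∀ a ∉ p, algebraMap A p.ResidueField a ≠ 0 :=
    fun a ha h => ha (Ideal.algebraMap_residueField_eq_zero.mp h)
  obtain ⟨x, hxm, hlin, hxht⟩ := Select.exists_family (K := p.ResidueField) (Backward.δ k A p) p hp
    hK (Backward.span_range_δ k A p) n hht'.ge hdim
  have hrx : Module.finrank p.ResidueField (Submodule.span p.ResidueField
      (Set.range fun j => Backward.δ k A p (x j))) = n := by
    have := finrank_span_eq_card hlin
    rwa [Fintype.card_fin] at this
  obtain ⟨y, hym, hyspan, hxy⟩ := exists_extend (K := p.ResidueField) (Backward.δ k A p) p hp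
    hK (Backward.span_range_δ k A p) (m - n) n m (by omega) x hxm (by omega)
  have hyht : (n : ℕ∞) ≤ (Ideal.span (Set.range y)).height :=
    hxht.trans (Ideal.height_mono (Ideal.span_mono hxy))
  have hrad : maximalIdeal A ≤ (Ideal.span (Set.range y)).radical :=
    Select.le_radical_of_height_le _ (hht'.le.trans hyht)
  let w : MvPowerSeries (Fin m) k →ₐ[k] A := Ega41.PowEval.powEval (maximalIdeal A) y hym
  let alg : Algebra (MvPowerSeries (Fin m) k) A := w.toRingHom.toAlgebra
  have hwalg : ∀ f, algebraMap (MvPowerSeries (Fin m) k) A f = w f := fun f ↦ rfl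
  have htower : IsScalarTower k (MvPowerSeries (Fin m) k) A :=
    IsScalarTower.of_algebraMap_eq fun r ↦ by rw [hwalg, w.commutes]
  have hfin : Module.Finite (MvPowerSeries (Fin m) k) A := PowFinite.finite_powEval y hym hrad
  have hloc : IsLocalHom (algebraMap (MvPowerSeries (Fin m) k) A) :=
    PowFinite.isLocalHom_powEval y hym
  refine ⟨alg, htower, hloc, hfin, ?_⟩
  have hX : ∀ i, algebraMap (MvPowerSeries (Fin m) k) A (MvPowerSeries.X i) = y i := fun i => by
    rw [hwalg]; exact Ega41.PowEval.powEval_X _ _ _ _
  refine isUnramifiedAt_of_span k A m p ?_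
  simp only [hX]
  exact hyspan

/-- The differentials `dT_i` generate the localization at an unramified prime. -/
theorem span_localized_eq_top (m : ℕ) [Algebra (MvPowerSeries (Fin m) k) A]
    [IsScalarTower k (MvPowerSeries (Fin m) k) A]
    [IsLocalHom (algebraMap (MvPowerSeries (Fin m) k) A)]
    (p : Ideal A) [p.IsPrime] [Algebra.IsUnramifiedAt (MvPowerSeries (Fin m) k) p] :
    Submodule.span (Localization.AtPrime p) (Set.range fun j =>
      LocalizedModule.mkLinearMap p.primeCompl (AdicCompletion (maximalIdeal A) Ω[A⁄k])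
        (Forward.ω k A m j)) = ⊤ := by
  let Ap := Localization.AtPrime p
  let Ω := AdicCompletion (IsLocalRing.maximalIdeal A) Ω[A⁄k]
  let L := LocalizedModule p.primeCompl Ω
  let ι : Ω →ₗ[A] L := LocalizedModule.mkLinearMap p.primeCompl Ω
  rw [eq_top_iff]
  intro z _
  obtain ⟨⟨y, t⟩, hy⟩ := IsLocalizedModule.surj p.primeCompl ι z
  obtain ⟨s, hs, hsy⟩ := Forward.exists_smul_mem k A m p y
  have h1 : ι (s • y) ∈ Submodule.span Ap (Set.range fun j => ι (Forward.ω k A m j)) := by
    have h2 : (Submodule.span A (Set.range (Forward.ω k A m))).map ι ≤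
        (Submodule.span Ap (Set.range fun j => ι (Forward.ω k A m j))).restrictScalars A := by
      rw [Submodule.map_span, Submodule.span_le]
      rintro _ ⟨_, ⟨j, rfl⟩, rfl⟩
      exact Submodule.subset_span ⟨j, rfl⟩
    exact h2 ⟨_, hsy, rfl⟩
  have hy' : (t : A) • z = ι y := hy
  rw [map_smul, ← hy', smul_smul, ← algebraMap_smul Ap] at h1
  have hu : IsUnit (algebraMap A Ap (s * t)) :=
    IsLocalization.map_units Ap (⟨s * t, p.primeCompl.mul_mem hs t.2⟩ : p.primeCompl)
  exact (Submodule.smul_mem_iff_of_isUnit _ hu).mp h1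

end

end K148.Gen
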