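import Groth.Agent.EGA418.K148.FreeReg
import Groth.Agent.Ega4late.H540.RankLower
import Groth.Agent.Ega4late.H544.Final
import Groth.Agent.CurvesC.RegNormal
import Groth.Agent.CalgB.PowSer

/-!
# Freeness and rank of the completed differentials at a geometrically regular point
-/

set_option autoImplicit false
universe u

namespace K148.GeomRegFree

open KaehlerDifferential TensorProduct IsLocalRing
open Groth.Agent

theorem finite_residueField_quotient (k A : Type u) [Field k] [CommRing A] [IsLocalRing A]
    [Algebra k A] [Module.Finite k (ResidueField A)] (q : Ideal A) [IsLocalRing (A ⧸ q)] :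
    Module.Finite k (ResidueField (A ⧸ q)) := by
  have hlh : IsLocalHom (Ideal.Quotient.mk q) :=
    IsLocalHom.of_surjective _ Ideal.Quotient.mk_surjective
  let φ : ResidueField A →ₐ[k] ResidueField (A ⧸ q) :=
    { ResidueField.map (Ideal.Quotient.mk q) with
      commutes' := fun r ↦ rfl }
  have hφ : Function.Surjective φ := by
    intro y
    obtain ⟨b, rfl⟩ := residue_surjective y
    obtain ⟨a, rfl⟩ := Ideal.Quotient.mk_surjective b
    exact ⟨residue A a, rfl⟩
  exact Module.Finite.of_surjective φ.toLinearMap hφ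

/-- The kernel of the localization at `P` if it is a domain. -/
theorem ker_eq {A : Type u} [CommRing A] (P : Ideal A) [P.IsPrime] (B : Type u) [CommRing B]
    [IsDomain B] [Algebra A B] [IsLocalization.AtPrime B P]
    (q : Ideal A) (hq : q ∈ minimalPrimes A) (hqP : q ≤ P) (L : Type u) [Field L] [Algebra B L]
    [IsFractionRing B L] [Algebra A L] [IsScalarTower A B L] :
    RingHom.ker (algebraMap A L) = q := by
  have hqp : q.IsPrime := hq.1.1
  have hle : RingHom.ker (algebraMap A L) ≤ q := by
    intro a ha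
    have h3 : algebraMap A B a = 0 := IsFractionRing.injective B L (by
      rw [map_zero, ← IsScalarTower.algebraMap_apply A B L]
      exact ha)
    rw [IsLocalization.map_eq_zero_iff P.primeCompl] at h3
    obtain ⟨s, hs⟩ := h3
    exact (hqp.mem_or_mem (hs ▸ q.zero_mem : (s : A) * a ∈ q)).resolve_left fun h ↦ s.2 (hqP h)
  exact le_antisymm hle (hq.2 ⟨RingHom.ker_isPrime _, bot_le⟩ hle)

/-- The fraction field of a domain `A_P` is the fraction field of `A/q`. -/
theorem isFractionRing_quotient {A : Type u} [CommRing A] (P : Ideal A) [P.IsPrime] (B : Type u)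
    [CommRing B] [IsDomain B] [Algebra A B] [IsLocalization.AtPrime B P]
    (q : Ideal A) (hqP : q ≤ P) (L : Type u) [Field L] [Algebra B L]
    [IsFractionRing B L] [Algebra A L] [IsScalarTower A B L]
    [Algebra (A ⧸ q) L] [IsScalarTower A (A ⧸ q) L] (hker : RingHom.ker (algebraMap A L) = q) :
    IsFractionRing (A ⧸ q) L := by
  have hφ : Function.Injective (algebraMap (A ⧸ q) L) := by
    rw [injective_iff_map_eq_zero]
    intro x hx
    obtain ⟨a, rfl⟩ := Ideal.Quotient.mk_surjective x
    rw [Ideal.Quotient.eq_zero_iff_mem, ← hker, RingHom.mem_ker,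
      IsScalarTower.algebraMap_apply A (A ⧸ q) L]
    exact hx
  have hfaith : FaithfulSMul (A ⧸ q) L := (faithfulSMul_iff_algebraMap_injective _ _).mpr hφ
  apply IsFractionRing.of_field
  intro z
  obtain ⟨x, y, hy, rfl⟩ := IsFractionRing.div_surjective (A := B) z
  obtain ⟨a, s, hx⟩ := IsLocalization.exists_mk'_eq P.primeCompl x
  obtain ⟨b, t, hy'⟩ := IsLocalization.exists_mk'_eq P.primeCompl y
  refine ⟨Ideal.Quotient.mk q (a * t), Ideal.Quotient.mk q (b * s), ?_⟩
  have hm : ∀ c : A, algebraMap (A ⧸ q) L (Ideal.Quotient.mk q c) = algebraMap A L c := fun c =>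
    (IsScalarTower.algebraMap_apply A (A ⧸ q) L c).symm
  rw [hm, hm]
  have hs : algebraMap A L s ≠ 0 := by
    intro h
    have h2 : (s : A) ∈ q := hker ▸ (RingHom.mem_ker.mpr h)
    exact s.2 (hqP h2)
  have ht : algebraMap A L t ≠ 0 := by
    intro h
    have h2 : (t : A) ∈ q := hker ▸ (RingHom.mem_ker.mpr h)
    exact t.2 (hqP h2)
  have hx2 : algebraMap B L x = algebraMap A L a / algebraMap A L s := by
    rw [eq_div_iff hs, IsScalarTower.algebraMap_apply A B L, IsScalarTower.algebraMap_apply A B L,
      ← map_mul, ← hx, IsLocalization.mk'_spec]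
  have hy2 : algebraMap B L y = algebraMap A L b / algebraMap A L t := by
    rw [eq_div_iff ht, IsScalarTower.algebraMap_apply A B L, IsScalarTower.algebraMap_apply A B L,
      ← map_mul, ← hy', IsLocalization.mk'_spec]
  rw [hx2, hy2, map_mul, map_mul, div_div_div_eq, mul_comm (algebraMap A L b)]

theorem rank_aux (p : ℕ) [Fact p.Prime] (k A : Type u) [Field k] [CharP k p]
    (hk : (frobenius k p).Finite) [CommRing A] [IsLocalRing A] [IsNoetherianRing A] [Algebra k A]
    [IsAdicComplete (maximalIdeal A) A] [Module.Finite k (ResidueField A)]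
    (P : Ideal A) [P.IsPrime] (B : Type u)
    [CommRing B] [IsDomain B] [Algebra A B] [IsLocalization.AtPrime B P]
    (q : Ideal A) (hq : q ∈ minimalPrimes A) (hqP : q ≤ P) (n : ℕ) (hn : ringKrullDim (A ⧸ q) = n)
    (L : Type u) [Field L] [Algebra B L]
    [IsFractionRing B L] [Algebra A L] [IsScalarTower A B L] [Algebra k L] [IsScalarTower k A L]
    (hred : Algebra.IsGeometricallyReduced k L) : Module.finrank L (Ω[L⁄k]) = n := by
  have hqp : q.IsPrime := hq.1.1
  have hinj : Function.Injective (mapBaseChange ℤ k L) :=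
    (Groth.Agent.S2117.result (k := k) (K := L) p).mp hred
  have hker : RingHom.ker (algebraMap A L) = q := ker_eq P B q hq hqP L
  have hnt : Nontrivial (A ⧸ q) := Ideal.Quotient.nontrivial_iff.mpr (Ideal.IsPrime.ne_top')
  have hloc : IsLocalRing (A ⧸ q) :=
    IsLocalRing.of_surjective' (Ideal.Quotient.mk q) Ideal.Quotient.mk_surjective
  have hcpl : IsAdicComplete (maximalIdeal (A ⧸ q)) (A ⧸ q) :=
    Ega4late.H540.RankLower.isAdicComplete_quotient A q
  have hfinq : Module.Finite k (ResidueField (A ⧸ q)) := finite_residueField_quotient k A q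
  let φ : (A ⧸ q) →+* L := Ideal.Quotient.lift q (algebraMap A L) (fun a ha => by
    rw [← hker] at ha; exact ha)
  let alg : Algebra (A ⧸ q) L := φ.toAlgebra
  have htow' : IsScalarTower A (A ⧸ q) L := IsScalarTower.of_algebraMap_eq fun r => rfl
  have htow : IsScalarTower k (A ⧸ q) L := IsScalarTower.of_algebraMap_eq fun r => by
    rw [IsScalarTower.algebraMap_apply k A (A ⧸ q), ← IsScalarTower.algebraMap_apply A (A ⧸ q) L,
      ← IsScalarTower.algebraMap_apply k A L]
  have hfr : IsFractionRing (A ⧸ q) L := isFractionRing_quotient P B q hqP L hker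
  exact RankEq.finrank_frac p k (A ⧸ q) hk n hn L hinj

theorem charP_case (p : ℕ) [Fact p.Prime] (k A : Type u) [Field k] [CharP k p]
    (hk : (frobenius k p).Finite) [CommRing A] [IsLocalRing A] [IsNoetherianRing A] [Algebra k A]
    [IsAdicComplete (maximalIdeal A) A] [Module.Finite k (ResidueField A)]
    (P : Ideal A) [P.IsPrime] (hP : CAlg.IsGeometricallyRegular k (Localization.AtPrime P))
    (q : Ideal A) (hq : q ∈ minimalPrimes A) (hqP : q ≤ P) (n : ℕ) (hn : ringKrullDim (A ⧸ q) = n) :
    Module.Free (Localization.AtPrime P) (LocalizedModule P.primeCompl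
        (AdicCompletion (maximalIdeal A) (Ω[A⁄k]))) ∧
      Module.finrank (Localization.AtPrime P) (LocalizedModule P.primeCompl
        (AdicCompletion (maximalIdeal A) (Ω[A⁄k]))) = n := by
  have hqp : q.IsPrime := hq.1.1
  let B := Localization.AtPrime P
  have hreg : IsRegularLocalRing B := by
    have := CalgC.PopGlue.isRegularRing_of_isGeometricallyRegular hP
    exact IsRegularLocalRing.of_isRegularRing_of_isLocalRing _
  have hdom : IsDomain B := CurvesC.RegNormal.isDomain B
  have hfinA : Module.Finite A (Ω[A⁄k]) := OmegaFin.finite_kaehler k A p hk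
  have hlocm : IsLocalizedModule P.primeCompl (KaehlerDifferential.map k k A B) := inferInstance
  have hfinB : Module.Finite B (Ω[B⁄k]) :=
    Module.Finite.of_isLocalizedModule P.primeCompl (KaehlerDifferential.map k k A B)
  have hfs := S2038.isAdicFormallySmooth_of_isGeometricallyRegular hP
  have hfree : Module.Free B (Ω[B⁄k]) := FreeReg.free_kaehler hfs
  -- the rank
  have het : Algebra.FormallyEtale B (FractionRing B) :=
    Algebra.FormallyEtale.of_isLocalization (nonZeroDivisors B)
  have hred : Algebra.IsGeometricallyReduced k (FractionRing B) :=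
    FreeReg.geomReduced_frac k B hP (FractionRing B)
  have hrank : Module.finrank B (Ω[B⁄k]) = n := by
    rw [← Module.finrank_baseChange (R := FractionRing B) (S := B) (M' := Ω[B⁄k]),
      (tensorKaehlerEquivOfFormallyEtale k B (FractionRing B)).finrank_eq]
    exact rank_aux p k A hk P B q hq hqP n hn (FractionRing B) hred
  -- transfer
  have hcomp : IsAdicComplete (maximalIdeal A) (Ω[A⁄k]) :=
    Ega1.LimitSystem.isAdicComplete_of_finite
  let e1 : LocalizedModule P.primeCompl (Ω[A⁄k]) ≃ₗ[B]
      LocalizedModule P.primeCompl (AdicCompletion (maximalIdeal A) (Ω[A⁄k])) :=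
    IsLocalizedModule.mapEquiv P.primeCompl (LocalizedModule.mkLinearMap P.primeCompl _)
      (LocalizedModule.mkLinearMap P.primeCompl _) B
      (AdicCompletion.ofLinearEquiv (maximalIdeal A) (Ω[A⁄k]))
  let e2 : LocalizedModule P.primeCompl (Ω[A⁄k]) ≃ₗ[B] Ω[B⁄k] :=
    LinearEquiv.extendScalarsOfIsLocalization P.primeCompl B
      (IsLocalizedModule.iso P.primeCompl (KaehlerDifferential.map k k A B))
  let e := e2.symm.trans e1
  exact ⟨Module.Free.of_equiv e, by rw [← e.finrank_eq, hrank]⟩

/-- A complete local ring is its own completed base change along the identity. -/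
theorem exists_equiv (k A : Type u) [Field k] [CommRing A] [IsLocalRing A] [Algebra k A]
    [IsAdicComplete (maximalIdeal A) A] (I : Ideal (A ⊗[k] k))
    (hI : I = (maximalIdeal A).map (Algebra.TensorProduct.includeLeft : A →ₐ[k] A ⊗[k] k)) :
    ∃ e : A ≃+* AdicCompletion I (A ⊗[k] k), ∀ a, e a = algebraMap (A ⊗[k] k) _
      ((Algebra.TensorProduct.includeLeft : A →ₐ[k] A ⊗[k] k) a) := by
  let e1 : A ≃ₐ[k] A ⊗[k] k := (Algebra.TensorProduct.rid k k A).symm
  have he1 : ∀ a, e1.toRingEquiv a = (Algebra.TensorProduct.includeLeft : A →ₐ[k] A ⊗[k] k) a := by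
    intro a
    rfl
  have hI' : I = (maximalIdeal A).map e1.toRingEquiv := by
    rw [hI]
    rfl
  have hcomp : IsAdicComplete I (A ⊗[k] k) :=
    CalgB.PowSer.isAdicComplete_of_ringEquiv e1.toRingEquiv (maximalIdeal A) I hI'
  refine ⟨e1.toRingEquiv.trans (AdicCompletion.ofAlgEquiv I).toRingEquiv, fun a => ?_⟩
  rw [← he1]
  rfl

theorem perfect_case (k A : Type u) [Field k] [PerfectField k]
    [CommRing A] [IsLocalRing A] [IsNoetherianRing A] [Algebra k A]
    [IsAdicComplete (maximalIdeal A) A] [Module.Finite k (ResidueField A)]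
    (P : Ideal A) [P.IsPrime] (hP : IsRegularLocalRing (Localization.AtPrime P))
    (q : Ideal A) (hq : q ∈ minimalPrimes A) (hqP : q ≤ P) (n : ℕ) (hn : ringKrullDim (A ⧸ q) = n) :
    Module.Free (Localization.AtPrime P) (LocalizedModule P.primeCompl
        (AdicCompletion (maximalIdeal A) (Ω[A⁄k]))) ∧
      Module.finrank (Localization.AtPrime P) (LocalizedModule P.primeCompl
        (AdicCompletion (maximalIdeal A) (Ω[A⁄k]))) = n := by
  obtain ⟨e, he⟩ := exists_equiv k A _ rfl
  have hp'prime : (P.comap e.symm.toRingHom).IsPrime := Ideal.comap_isPrime _ _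
  have hmem : ∀ x, x ∈ P.comap e.symm.toRingHom ↔ e.symm x ∈ P := fun x => Iff.rfl
  have hcomap : (P.comap e.symm.toRingHom).comap e.toRingHom = P := by
    ext a
    have h1 : a ∈ (P.comap e.symm.toRingHom).comap e.toRingHom ↔ e.symm (e a) ∈ P := Iff.rfl
    rw [h1, e.symm_apply_apply]
  have hpp : ((P.comap e.symm.toRingHom).comap (algebraMap (A ⊗[k] k) _)).comap
      (Algebra.TensorProduct.includeLeft : A →ₐ[k] A ⊗[k] k).toRingHom = P := by
    ext a
    have h1 : a ∈ ((P.comap e.symm.toRingHom).comap (algebraMap (A ⊗[k] k) _)).comap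
      (Algebra.TensorProduct.includeLeft : A →ₐ[k] A ⊗[k] k).toRingHom ↔
      e.symm (algebraMap (A ⊗[k] k) _
        ((Algebra.TensorProduct.includeLeft : A →ₐ[k] A ⊗[k] k) a)) ∈ P := Iff.rfl
    rw [h1, ← he, e.symm_apply_apply]
  have hreg : IsRegularLocalRing (Localization.AtPrime (P.comap e.symm.toRingHom)) :=
    IsRegularLocalRing.of_ringEquiv (Localization.localRingEquiv P _ e hcomap.symm)
  exact Ega4late.H544.Final.free_of_regular P n ⟨q, hq, hqP, hn⟩ k _ hpp hreg

end K148.GeomRegFree
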