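import Mathlib.RingTheory.MvPowerSeries.Expand
import Mathlib.RingTheory.MvPowerSeries.Derivative
import Mathlib.RingTheory.Kaehler.Basic
import Mathlib.Algebra.CharP.Frobenius
import Mathlib.RingTheory.Finiteness.Basic

/-!
# Power series over a field finite over its subfield of `p`-th powers

Every power series over such a field is a finite sum `∑ T^e a_j g_{e,j}^p` with `e_i < p`.  Hence a
`k`-derivation of `k⟦T⟧` into any module is determined by its values on the variables.
-/

set_option autoImplicit false
universe u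

namespace K148.PSFrob

section decomp

variable {k : Type*} [Field k] {d : ℕ} (p : ℕ) [Fact p.Prime] [CharP k p]

theorem coeff_pow_smul (g : MvPowerSeries (Fin d) k) (e : Fin d →₀ ℕ) :
    MvPowerSeries.coeff (p • e) (g ^ p) = MvPowerSeries.coeff e g ^ p := by
  have hp : p ≠ 0 := (Fact.out : p.Prime).ne_zero
  rw [← MvPowerSeries.map_frobenius_expand p hp, MvPowerSeries.coeff_map,
    MvPowerSeries.coeff_expand_smul]
  rfl

theorem coeff_pow_of_not_dvd (g : MvPowerSeries (Fin d) k)
    (n : Fin d →₀ ℕ) (i : Fin d) (h : ¬ p ∣ n i) :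
    MvPowerSeries.coeff n (g ^ p) = 0 := by
  have hp : p ≠ 0 := (Fact.out : p.Prime).ne_zero
  rw [← MvPowerSeries.map_frobenius_expand p hp, MvPowerSeries.coeff_map,
    MvPowerSeries.coeff_expand_of_not_dvd p hp _ h, map_zero]

variable {r : ℕ} (b : k → Fin r → k)

/-- The coefficient series of the decomposition into `p`-th powers. -/
noncomputable def root (f : MvPowerSeries (Fin d) k) (a : Fin d → Fin p) (j : Fin r) :
    MvPowerSeries (Fin d) k :=
  fun e => b (MvPowerSeries.coeff (p • e + Finsupp.equivFunOnFinite.symm (fun i => (a i : ℕ))) f) j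

omit [Fact p.Prime] [CharP k p] in
theorem coeff_root (f : MvPowerSeries (Fin d) k) (a : Fin d → Fin p) (j : Fin r) (e : Fin d →₀ ℕ) :
    MvPowerSeries.coeff e (root p b f a j) =
      b (MvPowerSeries.coeff (p • e + Finsupp.equivFunOnFinite.symm (fun i => (a i : ℕ))) f) j := rfl

theorem eq_sum (c : Fin r → k) (hb : ∀ x, x = ∑ j, c j * b x j ^ p) (f : MvPowerSeries (Fin d) k) :
    f = ∑ a : Fin d → Fin p, ∑ j : Fin r,
      MvPowerSeries.monomial (Finsupp.equivFunOnFinite.symm (fun i => (a i : ℕ))) (c j) *
        root p b f a j ^ p := by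
  classical
  have hp : 0 < p := (Fact.out : p.Prime).pos
  ext n
  rw [map_sum, Finset.sum_eq_single (fun i => (⟨n i % p, Nat.mod_lt _ hp⟩ : Fin p))]
  · rw [map_sum]
    have h1 : n - Finsupp.equivFunOnFinite.symm (fun i => n i % p) =
        p • Finsupp.equivFunOnFinite.symm (fun i => n i / p) := by
      ext i
      have := Nat.div_add_mod (n i) p
      simp only [Finsupp.coe_tsub, Pi.sub_apply, Finsupp.equivFunOnFinite_symm_apply_apply,
        Finsupp.smul_apply, smul_eq_mul]
      omega
    have h2 : p • Finsupp.equivFunOnFinite.symm (fun i => n i / p) +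
        Finsupp.equivFunOnFinite.symm (fun i => n i % p) = n := by
      ext i
      have := Nat.div_add_mod (n i) p
      simp only [Finsupp.coe_add, Pi.add_apply, Finsupp.equivFunOnFinite_symm_apply_apply,
        Finsupp.smul_apply, smul_eq_mul]
      omega
    have h3 : ∀ j : Fin r, MvPowerSeries.coeff n
        (MvPowerSeries.monomial (Finsupp.equivFunOnFinite.symm (fun i => n i % p)) (c j) *
          root p b f (fun i => (⟨n i % p, Nat.mod_lt _ hp⟩ : Fin p)) j ^ p) =
        c j * b (MvPowerSeries.coeff n f) j ^ p := by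
      intro j
      rw [MvPowerSeries.coeff_monomial_mul, if_pos, h1, coeff_pow_smul, coeff_root]
      · change c j * b (MvPowerSeries.coeff (p • Finsupp.equivFunOnFinite.symm (fun i => n i / p) +
          Finsupp.equivFunOnFinite.symm (fun i => n i % p)) f) j ^ p = _
        rw [h2]
      · intro i
        exact Nat.mod_le _ _
    exact (hb _).trans (Finset.sum_congr rfl fun j _ => (h3 j).symm)
  · intro a _ ha
    rw [map_sum]
    refine Finset.sum_eq_zero fun j _ => ?_
    rw [MvPowerSeries.coeff_monomial_mul]
    split_ifs with hle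
    · obtain ⟨i, hi⟩ : ∃ i, a i ≠ (⟨n i % p, Nat.mod_lt _ hp⟩ : Fin p) := by
        by_contra h
        push Not at h
        exact ha (funext h)
      rw [coeff_pow_of_not_dvd p _ _ i, mul_zero]
      rintro ⟨e, he⟩
      have hle' : (a i : ℕ) ≤ n i := hle i
      apply hi
      apply Fin.ext
      change (a i : ℕ) = n i % p
      have h4 : n i = p * e + a i := by
        simp only [Finsupp.coe_tsub, Pi.sub_apply, Finsupp.equivFunOnFinite_symm_apply_apply] at he
        omega
      rw [h4, Nat.mul_add_mod, Nat.mod_eq_of_lt (a i).2]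
    · rfl
  · intro h
    exact absurd (Finset.mem_univ _) h

/-- Elements of a finite algebra in terms of a finite family. -/
theorem exists_decomp_of_finite {R S : Type*} [CommRing R] [CommRing S] (φ : R →+* S) (hφ : φ.Finite) :
    ∃ (r : ℕ) (c : Fin r → S) (b : S → Fin r → R), ∀ x, x = ∑ j, c j * φ (b x j) := by
  let _ : Algebra R S := φ.toAlgebra
  have hfin : Module.Finite R S := hφ
  obtain ⟨r, c, hc⟩ := Module.Finite.exists_fin (R := R) (M := S)
  have h1 : ∀ x : S, ∃ b : Fin r → R, ∑ j, b j • c j = x := fun x =>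
    (Submodule.mem_span_range_iff_exists_fun R).mp (by rw [hc]; trivial)
  choose b hb using h1
  refine ⟨r, c, b, fun x => ?_⟩
  conv_lhs => rw [← hb x]
  refine Finset.sum_congr rfl fun j _ => ?_
  rw [Algebra.smul_def, mul_comm]
  rfl

omit [Fact p.Prime] [CharP k p] in
theorem exists_decomp [ExpChar k p] (hk : (frobenius k p).Finite) :
    ∃ (r : ℕ) (c : Fin r → k) (b : k → Fin r → k), ∀ x, x = ∑ j, c j * b x j ^ p := by
  obtain ⟨r, c, b, h⟩ := exists_decomp_of_finite _ hk
  exact ⟨r, c, b, h⟩

/-- A derivation of `k⟦T⟧` over `k` which kills the variables is zero, if `[k : k^p]` is finite. -/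
theorem derivation_eq_zero (hk : (frobenius k p).Finite) {M : Type*} [AddCommGroup M]
    [Module k M] [Module (MvPowerSeries (Fin d) k) M] [IsScalarTower k (MvPowerSeries (Fin d) k) M]
    (D : Derivation k (MvPowerSeries (Fin d) k) M) (hD : ∀ i, D (MvPowerSeries.X i) = 0)
    (f : MvPowerSeries (Fin d) k) : D f = 0 := by
  obtain ⟨r, c, b, hb⟩ := exists_decomp (k := k) p hk
  have hpoly : ∀ q : MvPolynomial (Fin d) k, D (q : MvPowerSeries (Fin d) k) = 0 := by
    intro q
    induction q using MvPolynomial.induction_on with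
    | C a =>
      rw [MvPolynomial.coe_C]
      exact D.map_algebraMap a
    | add p q hp hq => rw [MvPolynomial.coe_add, map_add, hp, hq, add_zero]
    | mul_X p i hp =>
      rw [MvPolynomial.coe_mul, D.leibniz, MvPolynomial.coe_X, hD, hp, smul_zero, smul_zero, add_zero]
  rw [eq_sum p b c hb f, map_sum]
  refine Finset.sum_eq_zero fun a _ => ?_
  rw [map_sum]
  refine Finset.sum_eq_zero fun j _ => ?_
  have hmon : MvPowerSeries.monomial (Finsupp.equivFunOnFinite.symm (fun i => (a i : ℕ))) (c j) =
      ((MvPolynomial.monomial (Finsupp.equivFunOnFinite.symm (fun i => (a i : ℕ))) (c j) :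
        MvPolynomial (Fin d) k) : MvPowerSeries (Fin d) k) := (MvPolynomial.coe_monomial _ _).symm
  have hchar : (p : MvPowerSeries (Fin d) k) = 0 := by
    have h1 : (p : MvPowerSeries (Fin d) k) = algebraMap k _ (p : k) := by rw [map_natCast]
    rw [h1, CharP.cast_eq_zero, map_zero]
  rw [D.leibniz, Derivation.leibniz_pow, hmon, hpoly, smul_zero, add_zero,
    ← Nat.cast_smul_eq_nsmul (MvPowerSeries (Fin d) k) p, hchar, zero_smul, smul_zero]

/-- The differentials of the variables generate the differentials of `k⟦T⟧`, if `[k : k^p]` is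
finite. -/
theorem span_range_D_X (hk : (frobenius k p).Finite) :
    Submodule.span (MvPowerSeries (Fin d) k)
      (Set.range fun i => KaehlerDifferential.D k (MvPowerSeries (Fin d) k) (MvPowerSeries.X i)) = ⊤ := by
  set N := Submodule.span (MvPowerSeries (Fin d) k)
      (Set.range fun i => KaehlerDifferential.D k (MvPowerSeries (Fin d) k) (MvPowerSeries.X i)) with hN
  have h1 : ∀ f, N.mkQ.compDer (KaehlerDifferential.D k (MvPowerSeries (Fin d) k)) f = 0 :=
    derivation_eq_zero p hk _ fun i => by
      change N.mkQ _ = 0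
      rw [Submodule.mkQ_apply, Submodule.Quotient.mk_eq_zero]
      exact Submodule.subset_span ⟨i, rfl⟩
  rw [eq_top_iff, ← KaehlerDifferential.span_range_derivation, Submodule.span_le]
  rintro _ ⟨f, rfl⟩
  have h2 : N.mkQ (KaehlerDifferential.D k (MvPowerSeries (Fin d) k) f) = 0 := h1 f
  rw [Submodule.mkQ_apply, Submodule.Quotient.mk_eq_zero] at h2
  exact h2

end decomp

end K148.PSFrob
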