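import Groth.Agent.Fdesc.GeomRed3
import Mathlib.FieldTheory.IsPerfectClosure
import Mathlib.RingTheory.Noetherian.OfPrime
import Mathlib.RingTheory.HopkinsLevitzki
import Mathlib.RingTheory.Spectrum.Prime.Homeomorph
import Mathlib.RingTheory.Nilpotent.GeometricallyReduced

/-!
# `K ⊗_k k^{p^{-∞}}` is Artinian iff the reduction of `K` becomes separable after a finite purely
inseparable extension
-/

set_option autoImplicit false
open scoped TensorProduct
universe u

namespace K148.PerfArt

open Groth.Agent

/-- A ring with a single prime ideal whose nilradical is finitely generated is Artinian. -/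
theorem isArtinianRing_of_subsingleton_spec (R : Type*) [CommRing R] [Subsingleton (PrimeSpectrum R)]
    (h : (nilradical R).FG) : IsArtinianRing R := by
  have h1 : ∀ I : Ideal R, I.IsPrime → I = nilradical R := by
    intro I hI
    apply le_antisymm
    · rw [nilradical_eq_sInf]
      refine le_sInf fun J hJ => ?_
      have : (⟨I, hI⟩ : PrimeSpectrum R) = ⟨J, hJ⟩ := Subsingleton.elim _ _
      exact (congrArg PrimeSpectrum.asIdeal this).le
    · exact nilradical_le_prime I
  rw [isArtinianRing_iff_isNoetherianRing_krullDimLE_zero]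
  refine ⟨IsNoetherianRing.of_prime fun I hI => by rw [h1 I hI]; exact h, ?_⟩
  refine Ring.KrullDimLE.mk₀ fun I hI => ?_
  obtain ⟨M, hM, hIM⟩ := Ideal.exists_le_maximal I hI.ne_top
  rw [h1 I hI, ← h1 M hM.isPrime]
  exact hM

theorem subsingleton_spec {k K P : Type*} [Field k] [Field K] [Algebra k K] [Field P] [Algebra k P]
    [IsPurelyInseparable k P] : Subsingleton (PrimeSpectrum (K ⊗[k] P)) := by
  have h := (PrimeSpectrum.isHomeomorph_comap_of_isPurelyInseparable (R := K) (k := k) (K := P)).injective
  exact h.subsingleton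

/-- The nilradical is extended from a subfield over which the reduction is geometrically reduced. -/
theorem nilradical_fg_aux (k' : Type u) [Field k'] (P : Type u) [Field P] [Algebra k' P]
    [Algebra.IsAlgebraic k' P] (B : Type u) [CommRing B] [Algebra k' B] [IsNoetherianRing B]
    [Algebra.IsGeometricallyReduced k' (B ⧸ nilradical B)] :
    (nilradical (P ⊗[k'] B)).FG := by
  have hred : IsReduced (P ⊗[k'] (B ⧸ nilradical B)) := inferInstance
  let g : B →ₐ[k'] (B ⧸ nilradical B) := Ideal.Quotient.mkₐ k' (nilradical B)
  have hg : Function.Surjective g := Ideal.Quotient.mk_surjective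
  have hker := Algebra.TensorProduct.lTensor_ker (R := k') (A := P) g hg
  have hkg : RingHom.ker g = nilradical B := Ideal.mk_ker
  have h1 : nilradical (P ⊗[k'] B) =
      (nilradical B).map (Algebra.TensorProduct.includeRight : B →ₐ[k'] P ⊗[k'] B) := by
    apply le_antisymm
    · intro z hz
      rw [← hkg, ← hker, RingHom.mem_ker]
      have h2 : IsNilpotent (Algebra.TensorProduct.map (AlgHom.id k' P) g z) :=
        (mem_nilradical.mp hz).map _
      exact h2.eq_zero
    · rw [Ideal.map_le_iff_le_comap]
      intro b hb
      exact mem_nilradical.mpr ((mem_nilradical.mp hb).map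
        (Algebra.TensorProduct.includeRight : B →ₐ[k'] P ⊗[k'] B))
  rw [h1]
  exact Ideal.FG.map (IsNoetherian.noetherian (nilradical B)) _

theorem nilradical_map_equiv {R S : Type*} [CommRing R] [CommRing S] (e : R ≃+* S)
    (h : (nilradical R).FG) : (nilradical S).FG := by
  have h3 : nilradical S = (nilradical R).map e.toRingHom := by
    ext z
    rw [Ideal.mem_map_iff_of_surjective e.toRingHom e.surjective]
    constructor
    · intro hz
      exact ⟨e.symm z, mem_nilradical.mpr ((mem_nilradical.mp hz).map e.symm), e.apply_symm_apply z⟩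
    · rintro ⟨w, hw, rfl⟩
      exact mem_nilradical.mpr ((mem_nilradical.mp hw).map e.toRingHom)
  rw [h3]
  exact Ideal.FG.map h e.toRingHom

theorem isNoetherianRing_tensor (k k' K : Type u) [Field k] [Field k'] [Field K] [Algebra k K]
    [Algebra k k'] [Module.Finite k k'] : IsNoetherianRing (k' ⊗[k] K) := by
  have h0 : Module.Finite K (K ⊗[k] k') := inferInstance
  have h1 : IsNoetherianRing (K ⊗[k] k') := IsNoetherianRing.of_finite K _
  let e : (K ⊗[k] k') ≃+* (k' ⊗[k] K) := (Algebra.TensorProduct.comm k K k').toRingEquiv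
  exact isNoetherianRing_of_surjective (K ⊗[k] k') (k' ⊗[k] K) e.toRingHom e.surjective

/-- The comparison of tensor products. -/
noncomputable def e1 (k k' P K : Type u) [Field k] [Field k'] [Field P]
    [Field K] [Algebra k K] [Algebra k k'] [Algebra k' P] [Algebra k P] [IsScalarTower k k' P] :
    P ⊗[k'] (k' ⊗[k] K) ≃+* P ⊗[k] K :=
  (Algebra.TensorProduct.cancelBaseChange k k' k' P K).toRingEquiv

/-- The nilradical over the perfect closure. -/
theorem nilradical_fg {k : Type u} [Field k] (k' : Type u) [Field k'] (P K : Type u) [Field P]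
    [Field K] [Algebra k K] [Algebra k k'] [Algebra k' P] [Algebra k P] [IsScalarTower k k' P]
    [Algebra.IsAlgebraic k' P] [Module.Finite k k']
    (h : Algebra.IsGeometricallyReduced k' ((k' ⊗[k] K) ⧸ nilradical (k' ⊗[k] K))) :
    (nilradical (K ⊗[k] P)).FG := by
  have hB : IsNoetherianRing (k' ⊗[k] K) := isNoetherianRing_tensor k k' K
  have h1 : (nilradical (P ⊗[k'] (k' ⊗[k] K))).FG := nilradical_fg_aux k' P (k' ⊗[k] K)
  have h2 : (nilradical (P ⊗[k] K)).FG := nilradical_map_equiv (e1 k k' P K) h1
  exact nilradical_map_equiv (Algebra.TensorProduct.comm k P K).toRingEquiv h2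

end K148.PerfArt
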