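import Groth.Agent.EGA418.K148.FracIndex
import Groth.Agent.Ega41.NoethNorm

/-!
# The rank of the differentials of the fraction field of a complete local domain
-/

set_option autoImplicit false
universe u

namespace K148.RankGe

open KaehlerDifferential TensorProduct Module IsLocalRing
open Groth.Agent Groth.Agent.Ega41.LinIndex Groth.Agent.Ega41.Cartier2

section abstract_

variable {L : Type u} [Field L] {V₀ V₁ V₂ : Type u} [AddCommGroup V₀] [Module L V₀]
  [AddCommGroup V₁] [Module L V₁] [AddCommGroup V₂] [Module L V₂]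

theorem rank_ge_abstract (f : V₀ →ₗ[L] V₁) (hf : Function.Injective f) (g : V₁ →ₗ[L] V₂)
    (hg : HasIndex g 0) {d : ℕ} (φ : V₁ →ₗ[L] (Fin d → L)) (hφ : Function.Surjective φ)
    (hφf : ∀ x, φ (f x) = 0) :
    Module.Finite L (LinearMap.ker (g ∘ₗ f)) ∧
      (d : Cardinal.{u}) + Module.rank L (LinearMap.ker (g ∘ₗ f)) ≤
        Module.rank L (V₂ ⧸ LinearMap.range (g ∘ₗ f)) := by
  let K := LinearMap.ker φ
  have hι : HasIndex K.subtype (d : ℤ) := by
    have e : (V₁ ⧸ LinearMap.range K.subtype) ≃ₗ[L] (Fin d → L) :=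
      (Submodule.quotEquivOfEq _ _ (Submodule.range_subtype K)).trans
        (φ.quotKerEquivOfSurjective hφ)
    have hk : LinearMap.ker K.subtype = ⊥ := Submodule.ker_subtype K
    refine ⟨by rw [hk]; infer_instance, Module.Finite.equiv e.symm, ?_⟩
    rw [e.finrank_eq, hk, finrank_bot, Module.finrank_fin_fun]
    simp
  obtain ⟨i1, i2, i3⟩ := hι.comp hg
  let j : LinearMap.ker (g ∘ₗ f) →ₗ[L] LinearMap.ker (g ∘ₗ K.subtype) :=
    LinearMap.codRestrict _ (LinearMap.codRestrict K (f ∘ₗ (LinearMap.ker (g ∘ₗ f)).subtype)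
      (fun x => hφf _)) (fun x => x.2)
  have hj : Function.Injective j := by
    intro x y hxy
    have h1 : f x.1 = f y.1 :=
      congrArg (fun z : LinearMap.ker (g ∘ₗ K.subtype) => (z.1 : V₁)) hxy
    exact Subtype.ext (hf h1)
  have hfin : Module.Finite L (LinearMap.ker (g ∘ₗ f)) := Module.Finite.of_injective j hj
  refine ⟨hfin, ?_⟩
  have hle : finrank L (LinearMap.ker (g ∘ₗ f)) ≤ finrank L (LinearMap.ker (g ∘ₗ K.subtype)) :=
    LinearMap.finrank_le_finrank_of_injective hj
  have hrange : LinearMap.range (g ∘ₗ f) ≤ LinearMap.range (g ∘ₗ K.subtype) := by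
    rintro _ ⟨x, rfl⟩
    exact ⟨⟨f x, hφf _⟩, rfl⟩
  have hsurj : Function.Surjective (Submodule.factor hrange) := Submodule.factor_surjective hrange
  have h1 : Module.rank L (V₂ ⧸ LinearMap.range (g ∘ₗ K.subtype)) ≤
      Module.rank L (V₂ ⧸ LinearMap.range (g ∘ₗ f)) := LinearMap.rank_le_of_surjective _ hsurj
  refine le_trans ?_ h1
  rw [← Module.finrank_eq_rank, ← Module.finrank_eq_rank, ← Nat.cast_add, Nat.cast_le]
  omega

end abstract_

section core

variable {k F L : Type u} [Field k] [Field F] [Field L] [Algebra k F] [Algebra F L] [Algebra k L]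
  [IsScalarTower k F L] [Module.Finite F L]

omit [Module.Finite F L] in
theorem mapBaseChange_eq (x : L ⊗[k] Ω[k⁄ℤ]) :
    mapBaseChange ℤ k L x = mapBaseChange ℤ F L ((mapBaseChange ℤ k F).baseChange L
      ((AlgebraTensorModule.cancelBaseChange k F L L (Ω[k⁄ℤ])).symm x)) := by
  have h := LinearMap.congr_fun (mapBaseChange_comp (K := k) (L := F) (M := L))
    ((AlgebraTensorModule.cancelBaseChange k F L L (Ω[k⁄ℤ])).symm x)
  rw [LinearMap.comp_apply, LinearMap.comp_apply, LinearEquiv.coe_coe,
    LinearEquiv.apply_symm_apply] at h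
  exact h

theorem hasIndex_cartier : HasIndex (mapBaseChange ℤ F L) 0 := by
  have hess : Algebra.EssFiniteType F L := inferInstance
  obtain ⟨-, hind⟩ := cartier (K := F) (L := L)
  have htr : Algebra.trdeg F L = 0 := trdeg_eq_zero
  rw [htr, map_zero, Nat.cast_zero] at hind
  exact hind

/-- The index is multiplicative: the case of a finite extension. -/
theorem hasIndex_of_finite {d : ℤ} (hind : HasIndex (mapBaseChange ℤ k F) d) :
    HasIndex (mapBaseChange ℤ k L) d := by
  have h3 := (hind.baseChange L).comp (hasIndex_cartier (F := F) (L := L))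
  have h4 := (hasIndex_equiv (AlgebraTensorModule.cancelBaseChange k F L L (Ω[k⁄ℤ])).symm).comp h3
  rw [zero_add, add_zero] at h4
  convert h4 using 1
  ext a
  simp [IsScalarTower.algebraMap_apply k F L]

theorem rank_ge {d : ℕ} (hinj : Function.Injective (mapBaseChange ℤ k F))
    (E : Fin d → Derivation ℤ F F) (hE : ∀ i (a : k), E i (algebraMap k F a) = 0) (T : Fin d → F)
    (hT : ∀ i j, E i (T j) = if i = j then 1 else 0) :
    Module.Finite L (LinearMap.ker (mapBaseChange ℤ k L)) ∧
      (d : Cardinal.{u}) + Module.rank L (LinearMap.ker (mapBaseChange ℤ k L)) ≤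
        Module.rank L (Ω[L⁄k]) := by
  classical
  let g : (L ⊗[F] Ω[F⁄ℤ]) →ₗ[L] Ω[L⁄ℤ] := mapBaseChange ℤ F L
  have hg : HasIndex g 0 := hasIndex_cartier
  let f' : L ⊗[F] (F ⊗[k] Ω[k⁄ℤ]) →ₗ[L] (L ⊗[F] Ω[F⁄ℤ]) := (mapBaseChange ℤ k F).baseChange L
  have hf' : Function.Injective f' :=
    Module.Flat.lTensor_preserves_injective_linearMap (M := L) (mapBaseChange ℤ k F) hinj
  let c := AlgebraTensorModule.cancelBaseChange k F L L (Ω[k⁄ℤ])
  have hh : ∀ x, mapBaseChange ℤ k L x = g (f' (c.symm x)) := mapBaseChange_eq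
  let φ : (L ⊗[F] Ω[F⁄ℤ]) →ₗ[L] (Fin d → L) :=
    LinearMap.pi fun i => ((Algebra.linearMap F L) ∘ₗ (E i).liftKaehlerDifferential).liftBaseChange L
  have hφ1 : ∀ (x : L) (a : F) (i : Fin d), φ (x ⊗ₜ KaehlerDifferential.D ℤ F a) i =
      x * algebraMap F L (E i a) := by
    intro x a i
    change (((Algebra.linearMap F L) ∘ₗ (E i).liftKaehlerDifferential).liftBaseChange L)
      (x ⊗ₜ KaehlerDifferential.D ℤ F a) = _
    rw [LinearMap.liftBaseChange_tmul, LinearMap.comp_apply,
      Derivation.liftKaehlerDifferential_comp_D, Algebra.linearMap_apply, smul_eq_mul]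
  have hφ : Function.Surjective φ := by
    intro v
    refine ⟨∑ j, v j ⊗ₜ KaehlerDifferential.D ℤ F (T j), ?_⟩
    ext i
    rw [map_sum, Finset.sum_apply]
    simp_rw [hφ1, hT]
    rw [Finset.sum_eq_single i]
    · simp
    · intro j _ hj
      simp [hj.symm]
    · simp
  have hφf : ∀ y, φ (f' y) = 0 := by
    intro y
    have h1 : φ ∘ₗ f' = 0 := by
      ext a i
      change φ (f' (1 ⊗ₜ (1 ⊗ₜ KaehlerDifferential.D ℤ k a))) i = 0
      have h2 : f' (1 ⊗ₜ (1 ⊗ₜ KaehlerDifferential.D ℤ k a)) =
          1 ⊗ₜ KaehlerDifferential.D ℤ F (algebraMap k F a) := by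
        change (mapBaseChange ℤ k F).baseChange L _ = _
        rw [LinearMap.baseChange_tmul, mapBaseChange_tmul, one_smul, KaehlerDifferential.map_D]
      rw [h2, hφ1, hE, map_zero, mul_zero]
    exact LinearMap.congr_fun h1 y
  have hinj' : Function.Injective (f' ∘ₗ c.symm.toLinearMap) := hf'.comp c.symm.injective
  have heq : mapBaseChange ℤ k L = g ∘ₗ (f' ∘ₗ c.symm.toLinearMap) := LinearMap.ext hh
  obtain ⟨h1, h2⟩ := rank_ge_abstract (f' ∘ₗ c.symm.toLinearMap) hinj' g hg φ hφ (fun x => hφf _)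
  rw [← heq] at h1 h2
  refine ⟨h1, h2.trans (cokerEquiv k L).rank_eq.le⟩

end core

section domain

/-- Noether normalization and the fraction fields. -/
theorem exists_fields (k C L : Type u) [Field k] [CommRing C] [IsDomain C] [IsNoetherianRing C]
    [IsLocalRing C] [Algebra k C] [IsAdicComplete (maximalIdeal C) C]
    [Module.Finite k (ResidueField C)] (n : ℕ) (hn : ringKrullDim C = n)
    [Field L] [Algebra C L] [IsFractionRing C L] [Algebra k L] [IsScalarTower k C L] :
    ∃ (F : Type u) (_ : Field F) (_ : Algebra (MvPowerSeries (Fin n) k) F)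
      (_ : IsFractionRing (MvPowerSeries (Fin n) k) F) (_ : Algebra k F)
      (_ : IsScalarTower k (MvPowerSeries (Fin n) k) F) (_ : Algebra F L) (_ : IsScalarTower k F L),
      Module.Finite F L := by
  obtain ⟨m, x, hx, hdim, hinj, -, hfin⟩ := Ega41.NoethNorm.exists_powEval (k₀ := k) (A := C)
  obtain rfl : m = n := by
    rw [hdim] at hn
    exact_mod_cast hn
  let w : MvPowerSeries (Fin m) k →ₐ[k] C := Ega41.PowEval.powEval (R := k) (maximalIdeal C) x hx
  let _ : Algebra (MvPowerSeries (Fin m) k) C := w.toRingHom.toAlgebra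
  have hwalg : ∀ f : MvPowerSeries (Fin m) k, algebraMap _ C f = w f := fun f ↦ rfl
  have tow1 : IsScalarTower k (MvPowerSeries (Fin m) k) C := IsScalarTower.of_algebraMap_eq fun r ↦ by
    rw [hwalg, w.commutes]
  have hfinSR : Module.Finite (MvPowerSeries (Fin m) k) C := hfin
  have hdom : IsDomain (MvPowerSeries (Fin m) k) := NoZeroDivisors.to_isDomain _
  let S := MvPowerSeries (Fin m) k
  let F := FractionRing S
  let _ : Algebra S L := ((algebraMap C L).comp (algebraMap S C)).toAlgebra
  have tow2 : IsScalarTower S C L := IsScalarTower.of_algebraMap_eq fun _ => rfl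
  have hinjSL : Function.Injective (algebraMap S L) := (IsFractionRing.injective C L).comp hinj
  let _ : Algebra F L := (IsFractionRing.lift (K := F) hinjSL).toAlgebra
  have tow3 : IsScalarTower S F L := IsScalarTower.of_algebraMap_eq fun s =>
    (IsFractionRing.lift_algebraMap hinjSL s).symm
  have hfinFL : Module.Finite F L := Ega4late.H540.DomainDer.finite_fractionRing S C F L
  have tow4 : IsScalarTower k F L := IsScalarTower.of_algebraMap_eq fun r => by
    rw [IsScalarTower.algebraMap_apply k S F, ← IsScalarTower.algebraMap_apply S F L,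
      IsScalarTower.algebraMap_apply S C L, ← IsScalarTower.algebraMap_apply k S C,
      ← IsScalarTower.algebraMap_apply k C L]
  exact ⟨F, inferInstance, inferInstance, inferInstance, inferInstance, inferInstance,
    inferInstance, tow4, hfinFL⟩

end domain

end K148.RankGe
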