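import Groth.Agent.Ega4C.CplFinite
import Mathlib.RingTheory.Spectrum.Prime.Homeomorph
import Mathlib.RingTheory.Ideal.GoingUp
import Mathlib.Topology.KrullDimension
import Mathlib.FieldTheory.PurelyInseparable.Basic
import Mathlib.RingTheory.LocalRing.ResidueField.Basic
import Mathlib.RingTheory.KrullDimension.NonZeroDivisors

/-!
# The reduction of a purely inseparable base change of a complete local domain
-/

set_option autoImplicit false
open scoped TensorProduct
universe u

namespace K148.RedExt

open IsLocalRing
open Groth.Agent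

section homeo

variable {R S : Type*} [CommRing R] [CommRing S] (f : R →+* S)
  (hf : IsHomeomorph (PrimeSpectrum.comap f))

include hf in
theorem isLocalRing_of_isHomeomorph [IsLocalRing R] : IsLocalRing S := by
  obtain ⟨x, hx⟩ := hf.surjective ⟨maximalIdeal R, inferInstance⟩
  have hmax : ∀ y : PrimeSpectrum S, y.asIdeal.IsMaximal → y = x := by
    intro y hy
    apply hf.injective
    rw [hx]
    have h1 : IsClosed {y} := (PrimeSpectrum.isClosed_singleton_iff_isMaximal y).mpr hy
    have h2 : IsClosed {PrimeSpectrum.comap f y} := by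
      rw [← Set.image_singleton]
      exact hf.isClosedMap _ h1
    have h3 := (PrimeSpectrum.isClosed_singleton_iff_isMaximal _).mp h2
    exact PrimeSpectrum.ext (IsLocalRing.eq_maximalIdeal h3)
  have hnt : Nontrivial S := ⟨0, 1, fun h => x.2.ne_top ((Ideal.eq_top_iff_one _).mpr
    (h ▸ x.asIdeal.zero_mem))⟩
  obtain ⟨M, hM⟩ := Ideal.exists_maximal S
  refine IsLocalRing.of_unique_max_ideal ⟨M, hM, fun N hN => ?_⟩
  have h1 := hmax ⟨M, hM.isPrime⟩ hM
  have h2 := hmax ⟨N, hN.isPrime⟩ hN
  exact congrArg PrimeSpectrum.asIdeal (h2.trans h1.symm)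

include hf in
theorem isPrime_nilradical_of_isHomeomorph [IsDomain R] : (nilradical S).IsPrime := by
  rw [← PrimeSpectrum.irreducibleSpace_iff_isPrime_nilradical]
  exact Function.Surjective.irreducibleSpace (hf.homeomorph _).symm.continuous
    (hf.homeomorph _).symm.surjective

include hf in
theorem ringKrullDim_eq_of_isHomeomorph : ringKrullDim S = ringKrullDim R := by
  rw [← PrimeSpectrum.topologicalKrullDim_eq_ringKrullDim,
    ← PrimeSpectrum.topologicalKrullDim_eq_ringKrullDim]
  exact hf.topologicalKrullDim_eq

end homeo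

section

variable (k k' A : Type u) [Field k] [Field k'] [Algebra k k'] [CommRing A] [Algebra k A]

/-- `A → k' ⊗_k A`. -/
noncomputable abbrev inc : A →+* k' ⊗[k] A :=
  (Algebra.TensorProduct.includeRight : A →ₐ[k] k' ⊗[k] A).toRingHom

theorem isHomeomorph_inc [IsPurelyInseparable k k'] :
    IsHomeomorph (PrimeSpectrum.comap (inc k k' A)) := by
  have h1 : IsHomeomorph (PrimeSpectrum.comap (algebraMap A (A ⊗[k] k'))) :=
    PrimeSpectrum.isHomeomorph_comap_of_isPurelyInseparable (R := A) (k := k) (K := k')
  let e : (A ⊗[k] k') ≃+* (k' ⊗[k] A) := (Algebra.TensorProduct.comm k A k').toRingEquiv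
  have h2 : IsHomeomorph (PrimeSpectrum.comap (e : (A ⊗[k] k') →+* (k' ⊗[k] A))) :=
    (PrimeSpectrum.homeomorphOfRingEquiv e.symm).isHomeomorph
  have h3 : inc k k' A = (e : (A ⊗[k] k') →+* (k' ⊗[k] A)).comp (algebraMap A (A ⊗[k] k')) := by
    ext a
    change (1 : k') ⊗ₜ[k] a = Algebra.TensorProduct.comm k A k' (a ⊗ₜ 1)
    rw [Algebra.TensorProduct.comm_tmul]
  rw [h3, PrimeSpectrum.comap_comp]
  exact h1.comp h2

/-- The reduction of `k' ⊗_k A`. -/
abbrev Red : Type u := (k' ⊗[k] A) ⧸ nilradical (k' ⊗[k] A)

/-- `A → (k' ⊗_k A)_red`. -/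
noncomputable abbrev toRed : A →+* Red k k' A :=
  (Ideal.Quotient.mk (nilradical (k' ⊗[k] A))).comp (inc k k' A)

theorem finite_toRed [Module.Finite k k'] : (toRed k k' A).Finite := by
  have h1 : (algebraMap A (A ⊗[k] k')).Finite := by
    rw [RingHom.finite_algebraMap]
    infer_instance
  let e : (A ⊗[k] k') ≃+* (k' ⊗[k] A) := (Algebra.TensorProduct.comm k A k').toRingEquiv
  have h3 : inc k k' A = (e : (A ⊗[k] k') →+* (k' ⊗[k] A)).comp (algebraMap A (A ⊗[k] k')) := by
    ext a
    change (1 : k') ⊗ₜ[k] a = Algebra.TensorProduct.comm k A k' (a ⊗ₜ 1)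
    rw [Algebra.TensorProduct.comm_tmul]
  have h2 : (inc k k' A).Finite := by
    rw [h3]
    exact (RingHom.Finite.of_surjective _ e.surjective).comp h1
  exact (RingHom.Finite.of_surjective _ Ideal.Quotient.mk_surjective).comp h2

theorem injective_toRed [IsReduced A] : Function.Injective (toRed k k' A) := by
  rw [injective_iff_map_eq_zero]
  intro a ha
  have h1 : IsNilpotent (inc k k' A a) :=
    mem_nilradical.mp (Ideal.Quotient.eq_zero_iff_mem.mp ha)
  have h2 : Function.Injective (inc k k' A) :=
    Algebra.TensorProduct.includeRight_injective (algebraMap k k').injective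
  exact ((IsNilpotent.map_iff h2).mp h1).eq_zero

variable [IsPurelyInseparable k k']

theorem isDomain_red [IsDomain A] : IsDomain (Red k k' A) := by
  have h := isPrime_nilradical_of_isHomeomorph _ (isHomeomorph_inc k k' A)
  exact Ideal.Quotient.isDomain _

theorem isLocalRing_red [IsLocalRing A] : IsLocalRing (Red k k' A) := by
  have h := isLocalRing_of_isHomeomorph _ (isHomeomorph_inc k k' A)
  have hnt : Nontrivial (Red k k' A) := by
    rw [Ideal.Quotient.nontrivial_iff]
    intro h1
    have h2 : IsNilpotent (1 : k' ⊗[k] A) := mem_nilradical.mp (h1 ▸ trivial)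
    exact not_isNilpotent_one h2
  exact IsLocalRing.of_surjective' _ Ideal.Quotient.mk_surjective

theorem ringKrullDim_red : ringKrullDim (Red k k' A) = ringKrullDim A := by
  rw [← ringKrullDim_eq_of_isHomeomorph _ (isHomeomorph_inc k k' A)]
  rw [ringKrullDim_quotient]
  have h1 : PrimeSpectrum.zeroLocus ((nilradical (k' ⊗[k] A) : Ideal _) : Set (k' ⊗[k] A)) =
      Set.univ := by
    rw [Set.eq_univ_iff_forall]
    intro x
    exact nilradical_le_prime x.asIdeal
  rw [h1]
  exact Order.krullDim_eq_of_orderIso OrderIso.Set.univ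

omit [IsPurelyInseparable k k'] in
theorem isNoetherianRing_red [IsNoetherianRing A] [Module.Finite k k'] :
    IsNoetherianRing (Red k k' A) := by
  let _ : Algebra A (Red k k' A) := (toRed k k' A).toAlgebra
  have hfin : Module.Finite A (Red k k' A) := finite_toRed k k' A
  exact IsNoetherianRing.of_finite A _

omit [IsPurelyInseparable k k'] in
theorem isAdicComplete_red [IsLocalRing A] [IsNoetherianRing A] [IsAdicComplete (maximalIdeal A) A]
    [Module.Finite k k'] [IsLocalRing (Red k k' A)] :
    IsAdicComplete (maximalIdeal (Red k k' A)) (Red k k' A) := by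
  let _ : Algebra A (Red k k' A) := (toRed k k' A).toAlgebra
  have hfin : Module.Finite A (Red k k' A) := finite_toRed k k' A
  exact Ega4C.CplFinite.isAdicComplete_of_finite A (Red k k' A)

omit [IsPurelyInseparable k k'] in
/-- The residue field of the reduction is finite. -/
theorem finite_residueField [IsLocalRing A] [Module.Finite k (ResidueField A)]
    [Module.Finite k k'] [IsLocalRing (Red k k' A)] :
    Module.Finite k' (ResidueField (Red k k' A)) := by
  let _ : Algebra A (Red k k' A) := (toRed k k' A).toAlgebra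
  have hfin : Module.Finite A (Red k k' A) := finite_toRed k k' A
  have hloc : IsLocalHom (algebraMap A (Red k k' A)) := by
    refine ((IsLocalRing.local_hom_TFAE (algebraMap A (Red k k' A))).out 0 4).mpr ?_
    have h1 : ((maximalIdeal (Red k k' A)).comap (algebraMap A (Red k k' A))).IsMaximal :=
      Ideal.isMaximal_comap_of_isIntegral_of_isMaximal _
    exact IsLocalRing.eq_maximalIdeal h1
  have h2 : Module.Finite (ResidueField A) (ResidueField (Red k k' A)) := inferInstance
  have t1 : IsScalarTower k (ResidueField A) (ResidueField (Red k k' A)) :=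
    IsScalarTower.of_algebraMap_eq fun x => by
      change residue _ (algebraMap k (Red k k' A) x) = residue _ (toRed k k' A (algebraMap k A x))
      congr 1
      change Ideal.Quotient.mk _ (algebraMap k (k' ⊗[k] A) x) =
        Ideal.Quotient.mk _ ((1 : k') ⊗ₜ[k] (algebraMap k A x))
      congr 1
      rw [Algebra.algebraMap_eq_smul_one (A := A), TensorProduct.tmul_smul,
        Algebra.algebraMap_eq_smul_one]
      rfl
  have h3 : Module.Finite k (ResidueField (Red k k' A)) := Module.Finite.trans (ResidueField A) _
  exact Module.Finite.of_restrictScalars_finite k k' _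

end

end K148.RedExt
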