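import Groth.Agent.Ega2.CompleteFinite
import Groth.Agent.Ega4C.CplFinite
import Groth.Agent.Ega41.DimFlat
import Mathlib.RingTheory.QuasiFinite.Basic
import Mathlib.RingTheory.HopkinsLevitzki
import Mathlib.RingTheory.Flat.FaithfullyFlat.Algebra
import Mathlib.RingTheory.KrullDimension.Zero

/-!
# Finite algebras over a complete Noetherian local ring
-/

set_option autoImplicit false
universe u

namespace K148.Semilocal

open IsLocalRing Groth.Agent

section

variable (S T : Type u) [CommRing S] [IsLocalRing S] [IsNoetherianRing S]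
  [IsAdicComplete (maximalIdeal S) S] [CommRing T] [Algebra S T] [Module.Finite S T]

include S in
theorem surjective_localization (M : Ideal T) [hM : M.IsMaximal] :
    Function.Surjective (algebraMap T (Localization.AtPrime M)) := by
  obtain ⟨e, he, heM, hen⟩ := Ega2.CompleteFinite.exists_idempotent_of_isMaximal (A := S) M
  have he' : e * e = e := he
  have h1e : 1 - e ∈ M := by
    have h1 : e * (1 - e) ∈ M := by
      rw [mul_sub, mul_one, he', sub_self]; exact M.zero_mem
    exact (hM.isPrime.mem_or_mem h1).resolve_left heM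
  intro x
  obtain ⟨a, s, rfl⟩ := IsLocalization.exists_mk'_eq M.primeCompl x
  have hu : IsUnit (e * s + (1 - e)) := by
    by_contra hnu
    obtain ⟨n, hn, hmem⟩ := exists_max_ideal_of_mem_nonunits hnu
    by_cases hnM : n = M
    · subst hnM
      have h2 : e * s ∈ n := (Ideal.add_mem_iff_left n h1e).mp hmem
      exact (hM.isPrime.mem_or_mem h2).elim heM s.2
    · have h3 : e ∈ n := hen n hn hnM
      have h4 : (1 : T) ∈ n := by
        have h5 : e * s + (1 - e) - (e * s - e) ∈ n :=
          n.sub_mem hmem (n.sub_mem (n.mul_mem_right _ h3) h3)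
        have h6 : e * s + (1 - e) - (e * s - e) = 1 := by ring
        rwa [h6] at h5
      exact hn.ne_top ((Ideal.eq_top_iff_one _).mpr h4)
  obtain ⟨u, hu⟩ := hu
  refine ⟨a * ↑u⁻¹, ?_⟩
  rw [eq_comm, IsLocalization.mk'_eq_iff_eq_mul, ← map_mul, IsLocalization.eq_iff_exists M.primeCompl]
  refine ⟨⟨e, heM⟩, ?_⟩
  have h2 : e * s = e * u := by
    rw [hu, mul_add, ← mul_assoc, he', mul_sub, he', mul_one, sub_self, add_zero]
  change e * a = e * (a * ↑u⁻¹ * s)
  have h3 : e * (a * ↑u⁻¹ * s) = a * ↑u⁻¹ * (e * s) := by ring
  rw [h3, h2]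
  have h4 : a * ↑u⁻¹ * (e * u) = a * e * (↑u⁻¹ * u) := by ring
  rw [h4, Units.inv_mul, mul_one, mul_comm]

theorem finite_localization (M : Ideal T) [M.IsMaximal] :
    Module.Finite S (Localization.AtPrime M) :=
  Module.Finite.of_surjective (IsScalarTower.toAlgHom S T (Localization.AtPrime M)).toLinearMap
    (surjective_localization S T M)

include S in
theorem isAdicComplete_localization (M : Ideal T) [M.IsMaximal] :
    IsAdicComplete (maximalIdeal (Localization.AtPrime M)) (Localization.AtPrime M) := by
  have := finite_localization S T M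
  exact Ega4C.CplFinite.isAdicComplete_of_finite S (Localization.AtPrime M)

omit [IsNoetherianRing S] [IsAdicComplete (maximalIdeal S) S] in
theorem comap_eq (M : Ideal T) [M.IsMaximal] : M.comap (algebraMap S T) = maximalIdeal S := by
  have h1 : (M.comap (algebraMap S T)).IsMaximal :=
    Ideal.isMaximal_comap_of_isIntegral_of_isMaximal _
  exact IsLocalRing.eq_maximalIdeal h1

omit [IsNoetherianRing S] [IsAdicComplete (maximalIdeal S) S] in
include S in
theorem finite_maximalSpectrum : Finite (MaximalSpectrum T) := by
  have h1 : ((maximalIdeal S).primesOver T).Finite := Algebra.QuasiFinite.finite_primesOver _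
  have h2 : Finite ((maximalIdeal S).primesOver T) := h1
  refine Finite.of_injective (β := (maximalIdeal S).primesOver T)
    (fun M => ⟨M.asIdeal, M.isMaximal.isPrime, ⟨?_⟩⟩) ?_
  · have := M.isMaximal
    exact (comap_eq S T M.asIdeal).symm
  · intro M N h
    exact MaximalSpectrum.ext (congrArg Subtype.val h)

end

section flat

variable (A S T : Type u) [CommRing A] [IsLocalRing A] [IsNoetherianRing A] [CommRing S]
  [IsLocalRing S] [IsNoetherianRing S]
  [IsAdicComplete (maximalIdeal S) S] [CommRing T] [Algebra S T] [Module.Finite S T]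
  [Algebra A T] [Module.Flat A T]
  (h : (maximalIdeal S).map (algebraMap S T) ≤ (maximalIdeal A).map (algebraMap A T))
  (hA : ∀ M : Ideal T, M.IsMaximal → (maximalIdeal A).map (algebraMap A T) ≤ M)

include h hA in
theorem main (M : Ideal T) [M.IsMaximal] :
    Module.FaithfullyFlat A (Localization.AtPrime M) ∧
      ringKrullDim (Localization.AtPrime M) = ringKrullDim A := by
  have hN : IsNoetherianRing T := IsNoetherianRing.of_finite S T
  have hflat : Module.Flat A (Localization.AtPrime M) := Module.Flat.trans A T _
  have hcomap : M.comap (algebraMap A T) = maximalIdeal A := by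
    have h1 := Ideal.map_le_iff_le_comap.mp (hA M inferInstance)
    exact le_antisymm (IsLocalRing.le_maximalIdeal (Ideal.IsPrime.ne_top inferInstance)) h1
  have hloc : IsLocalHom (algebraMap A (Localization.AtPrime M)) := by
    refine ((IsLocalRing.local_hom_TFAE (algebraMap A (Localization.AtPrime M))).out 0 4).mpr ?_
    have h0 : (maximalIdeal (Localization.AtPrime M)).comap (algebraMap T (Localization.AtPrime M)) = M :=
      IsLocalization.AtPrime.under_maximalIdeal (Localization.AtPrime M) M
    rw [IsScalarTower.algebraMap_eq A T (Localization.AtPrime M), ← Ideal.comap_comap, h0, hcomap]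
  refine ⟨Module.FaithfullyFlat.of_flat_of_isLocalHom, ?_⟩
  have hfin := finite_localization S T M
  obtain ⟨N, hN'⟩ := Ega4C.CplFinite.exists_pow_le S (Localization.AtPrime M)
  have h2 : (maximalIdeal S).map (algebraMap S (Localization.AtPrime M)) ≤
      (maximalIdeal A).map (algebraMap A (Localization.AtPrime M)) := by
    rw [IsScalarTower.algebraMap_eq S T (Localization.AtPrime M), ← Ideal.map_map,
      IsScalarTower.algebraMap_eq A T (Localization.AtPrime M), ← Ideal.map_map]
    exact Ideal.map_mono h
  rw [Ega41.DimFlat.ringKrullDim_eq_add_of_flat (A := A)]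
  have hne : (maximalIdeal A).map (algebraMap A (Localization.AtPrime M)) ≠ ⊤ :=
    (map_maximalIdeal_lt_top (algebraMap A (Localization.AtPrime M))).ne
  have hnt : Nontrivial (Localization.AtPrime M ⧸ (maximalIdeal A).map
    (algebraMap A (Localization.AtPrime M))) := Ideal.Quotient.nontrivial_iff.mpr hne
  have hloc : IsLocalRing (Localization.AtPrime M ⧸ (maximalIdeal A).map
    (algebraMap A (Localization.AtPrime M))) :=
    IsLocalRing.of_surjective' (Ideal.Quotient.mk _) Ideal.Quotient.mk_surjective
  have hart : IsArtinianRing (Localization.AtPrime M ⧸ (maximalIdeal A).map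
      (algebraMap A (Localization.AtPrime M))) := by
    rw [isArtinianRing_iff_isNilpotent_maximalIdeal]
    refine ⟨N, ?_⟩
    rw [← map_maximalIdeal_of_surjective _ Ideal.Quotient.mk_surjective, ← Ideal.map_pow,
      Ideal.zero_eq_bot, Ideal.map_eq_bot_iff_le_ker, Ideal.mk_ker]
    exact hN'.trans h2
  have h3 : ringKrullDim (Localization.AtPrime M ⧸ (maximalIdeal A).map
      (algebraMap A (Localization.AtPrime M))) = 0 :=
    ringKrullDimZero_iff_ringKrullDim_eq_zero.mp inferInstance
  rw [h3, add_zero]

end flat

end K148.Semilocal
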