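import Groth.Agent.EGA418.K148.RedExt
import Groth.Agent.EGA418.K148.RankGe
import Groth.Agent.S5061
import Groth.Agent.S2117
import Mathlib.FieldTheory.PurelyInseparable.PerfectClosure
import Mathlib.FieldTheory.IsAlgClosed.AlgebraicClosure

/-!
# A finite purely inseparable extension making the fraction field separable
-/

set_option autoImplicit false
open scoped TensorProduct
universe u

namespace K148.SepRed

open IsLocalRing
open Groth.Agent K148.RedExt

/-- A reduced ring with a single prime is a field. -/
theorem isField_of_subsingleton (R : Type*) [CommRing R] [Nontrivial R] [IsReduced R]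
    [Subsingleton (PrimeSpectrum R)] : IsField R := by
  have hloc : IsLocalRing R := by
    obtain ⟨M, hM⟩ := Ideal.exists_maximal R
    refine IsLocalRing.of_unique_max_ideal ⟨M, hM, fun N hN => ?_⟩
    have : (⟨N, hN.isPrime⟩ : PrimeSpectrum R) = ⟨M, hM.isPrime⟩ := Subsingleton.elim _ _
    exact congrArg PrimeSpectrum.asIdeal this
  rw [IsLocalRing.isField_iff_maximalIdeal_eq]
  rw [eq_bot_iff]
  intro x hx
  have h1 : x ∈ nilradical R := by
    rw [nilradical_eq_sInf, Ideal.mem_sInf]
    intro J hJ
    have hJ' : J.IsPrime := hJ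
    have : (⟨maximalIdeal R, inferInstance⟩ : PrimeSpectrum R) = ⟨J, hJ'⟩ := Subsingleton.elim _ _
    have h : maximalIdeal R = J := congrArg PrimeSpectrum.asIdeal this
    rw [← h]
    exact hx
  exact (mem_nilradical.mp h1).eq_zero

theorem isArtinianRing_tensor (k F L P : Type u) [Field k] [Field F] [Field L] [Field P]
    [Algebra k F] [Algebra F L] [Algebra k L] [IsScalarTower k F L] [Module.Finite F L]
    [Algebra k P] [IsPurelyInseparable k P] [Algebra.IsGeometricallyReduced k F] :
    IsArtinianRing (L ⊗[k] P) := by
  have h1 : IsReduced (F ⊗[k] P) := by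
    have h2 : IsReduced (P ⊗[k] F) := inferInstance
    exact isReduced_of_injective (Algebra.TensorProduct.comm k F P).toRingEquiv.toRingHom
      (Algebra.TensorProduct.comm k F P).injective
  have h2 : Subsingleton (PrimeSpectrum (F ⊗[k] P)) := PerfArt.subsingleton_spec
  have h3 : IsField (F ⊗[k] P) := isField_of_subsingleton _
  have h4 : IsArtinianRing (F ⊗[k] P) := by
    let _ := h3.toField
    infer_instance
  have h5 : Module.Finite (F ⊗[k] P) ((F ⊗[k] P) ⊗[F] L) := inferInstance
  have h6 : IsArtinianRing ((F ⊗[k] P) ⊗[F] L) := IsArtinianRing.of_finite (F ⊗[k] P) _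
  let e1 : (F ⊗[k] P) ⊗[F] L ≃+* L ⊗[F] (F ⊗[k] P) :=
    (Algebra.TensorProduct.comm F (F ⊗[k] P) L).toRingEquiv
  let e2 : L ⊗[F] (F ⊗[k] P) ≃+* L ⊗[k] P :=
    (Algebra.TensorProduct.cancelBaseChange k F F L P).toRingEquiv
  exact (e1.trans e2).surjective.isArtinianRing (f := (e1.trans e2).toRingHom)

/-- A finite purely inseparable extension making the fraction field separable. -/
theorem exists_geomReduced (p : ℕ) [Fact p.Prime] (k A L : Type u) [Field k] [CharP k p]
    [CommRing A] [IsDomain A] [IsNoetherianRing A] [IsLocalRing A]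
    [Algebra k A] [IsAdicComplete (maximalIdeal A) A] [Module.Finite k (ResidueField A)] (n : ℕ)
    (hn : ringKrullDim A = n) [Field L] [Algebra A L] [IsFractionRing A L] [Algebra k L]
    [IsScalarTower k A L] :
    ∃ (k' : Type u) (_ : Field k') (_ : Algebra k k'), Module.Finite k k' ∧ IsPurelyInseparable k k' ∧
        Algebra.IsGeometricallyReduced k' ((k' ⊗[k] L) ⧸ nilradical (k' ⊗[k] L)) := by
  obtain ⟨F, _, _, _, _, _, _, _, _⟩ := RankGe.exists_fields k A L n hn
  have hF : Algebra.IsGeometricallyReduced k F :=
    (Groth.Agent.S2117.result p).mpr (FracIndex.injective_mapBaseChange k n F)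
  let P := perfectClosure k (AlgebraicClosure k)
  have hPk : CharP P p := charP_of_injective_algebraMap (algebraMap k P).injective p
  have hPp : PerfectRing P p := inferInstance
  have hrad : IsPRadical (algebraMap k P) p := inferInstance
  exact (Groth.Agent.S5061.result p k L P).mp (isArtinianRing_tensor k F L P)

/-- The fraction field of the reduction is geometrically reduced. -/
theorem geomReduced_frac (k k' A L L' : Type u) [Field k] [Field k'] [Algebra k k']
    [IsPurelyInseparable k k'] [Module.Finite k k'] [CommRing A] [IsDomain A] [Algebra k A]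
    [Field L] [Algebra A L] [IsFractionRing A L] [Algebra k L] [IsScalarTower k A L]
    [Field L'] [Algebra (Red k k' A) L'] [IsFractionRing (Red k k' A) L'] [Algebra k' L']
    [IsScalarTower k' (Red k k' A) L']
    (h : Algebra.IsGeometricallyReduced k' ((k' ⊗[k] L) ⧸ nilradical (k' ⊗[k] L))) :
    Algebra.IsGeometricallyReduced k' L' := by
  have hdomA : IsDomain (Red k k' A) := isDomain_red k k' A
  have hdomL : IsDomain (Red k k' L) := isDomain_red k k' L
  have hfield : IsField (Red k k' L) := by
    let _ : Algebra L (Red k k' L) := (toRed k k' L).toAlgebra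
    have hfin : Module.Finite L (Red k k' L) := finite_toRed k k' L
    exact isField_of_isIntegral_of_isField' (R := L) (Field.toIsField L)
  let φ : (k' ⊗[k] A) →ₐ[k'] (k' ⊗[k] L) :=
    Algebra.TensorProduct.map (AlgHom.id k' k') (IsScalarTower.toAlgHom k A L)
  have hφ : Function.Injective φ :=
    Module.Flat.lTensor_preserves_injective_linearMap (M := k')
      (IsScalarTower.toAlgHom k A L).toLinearMap (IsFractionRing.injective A L)
  have hcomap : nilradical (k' ⊗[k] A) = (nilradical (k' ⊗[k] L)).comap φ := by
    ext x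
    rw [Ideal.mem_comap, mem_nilradical, mem_nilradical]
    exact (IsNilpotent.map_iff hφ).symm
  let ψ : Red k k' A →ₐ[k'] Red k k' L :=
    Ideal.quotientMapₐ (nilradical (k' ⊗[k] L)) φ hcomap.le
  have hψ : Function.Injective ψ :=
    Ideal.quotientMap_injective' (f := (φ : (k' ⊗[k] A) →+* (k' ⊗[k] L))) (H := hcomap.le) hcomap.ge
  have hu : ∀ y : nonZeroDivisors (Red k k' A), IsUnit (ψ y) := by
    intro y
    have h1 : ψ y ≠ 0 := fun h2 => nonZeroDivisors.ne_zero y.2 (hψ (by rw [h2, map_zero]))
    obtain ⟨z, hz⟩ := hfield.mul_inv_cancel h1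
    exact IsUnit.of_mul_eq_one z hz
  let g : L' →+* Red k k' L := IsLocalization.lift (g := ψ.toRingHom) hu
  let g' : L' →ₐ[k'] Red k k' L :=
    { g with
      commutes' := fun r => by
        change g (algebraMap k' L' r) = _
        rw [IsScalarTower.algebraMap_apply k' (Red k k' A) L', IsLocalization.lift_eq]
        exact ψ.commutes r }
  exact Algebra.IsGeometricallyReduced.of_injective g' (RingHom.injective g)

end K148.SepRed
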