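import Groth.Agent.EGA418.K148.Gen

/-!
# Multiplying by units to make differentials independent
-/

set_option autoImplicit false

universe u

namespace K148.Units

open IsLocalRing KaehlerDifferential TensorProduct
open Groth.Agent Groth.Agent.Ega4late.H543

/-- Elements spanning the fibre at `p` generate the localization at `p`. -/
theorem span_localized_of_fibre {A M : Type u} [CommRing A] [AddCommGroup M] [Module A M]
    [Module.Finite A M] (p : Ideal A) [p.IsPrime] {ι : Type*} (f : ι → M)
    (h : Submodule.span p.ResidueField (Set.range fun i => (1 : p.ResidueField) ⊗ₜ[A] f i) = ⊤) :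
    Submodule.span (Localization.AtPrime p)
      (Set.range fun i => LocalizedModule.mkLinearMap p.primeCompl M (f i)) = ⊤ := by
  have hbc := IsLocalizedModule.isBaseChange p.primeCompl (Localization.AtPrime p)
      (LocalizedModule.mkLinearMap p.primeCompl M)
  let e1 : Localization.AtPrime p ⊗[A] M ≃ₗ[Localization.AtPrime p]
      LocalizedModule p.primeCompl M := hbc.equiv
  let e2 : p.ResidueField ⊗[Localization.AtPrime p] (Localization.AtPrime p ⊗[A] M) ≃ₗ[p.ResidueField]
      p.ResidueField ⊗[A] M :=
    TensorProduct.AlgebraTensorModule.cancelBaseChange A (Localization.AtPrime p) p.ResidueField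
      p.ResidueField M
  let e3 : p.ResidueField ⊗[Localization.AtPrime p] LocalizedModule p.primeCompl M ≃ₗ[p.ResidueField]
      p.ResidueField ⊗[A] M := (e1.symm.baseChange _ p.ResidueField _ _).trans e2
  have he3 : ∀ m : M, e3 (1 ⊗ₜ LocalizedModule.mkLinearMap p.primeCompl M m) = 1 ⊗ₜ m := by
    intro m
    have h1 : e1 (1 ⊗ₜ m) = LocalizedModule.mkLinearMap p.primeCompl M m := by
      rw [IsBaseChange.equiv_tmul, one_smul]
    have h2 : e1.symm (LocalizedModule.mkLinearMap p.primeCompl M m) = 1 ⊗ₜ m := by
      rw [LinearEquiv.symm_apply_eq, h1]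
    change e2 ((e1.symm.baseChange _ p.ResidueField _ _)
      (1 ⊗ₜ LocalizedModule.mkLinearMap p.primeCompl M m)) = _
    rw [LinearEquiv.baseChange_tmul, h2, AlgebraTensorModule.cancelBaseChange_tmul, one_smul]
  rw [← IsLocalRing.map_tensorProduct_mk_eq_top, Submodule.map_span,
    ← Submodule.restrictScalars_span (Localization.AtPrime p) (ResidueField (Localization.AtPrime p))
      Ideal.Quotient.mk_surjective, Submodule.restrictScalars_eq_top_iff, ← Set.range_comp]
  have h4 : (Submodule.span p.ResidueField (Set.range fun i =>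
      (1 : p.ResidueField) ⊗ₜ[Localization.AtPrime p]
        LocalizedModule.mkLinearMap p.primeCompl M (f i))).map e3.toLinearMap = ⊤ := by
    rw [Submodule.map_span, ← Set.range_comp, ← h]
    congr 2
    ext i
    exact he3 (f i)
  have h5 := congrArg (Submodule.comap e3.toLinearMap) h4
  rw [Submodule.comap_map_eq_of_injective e3.injective, Submodule.comap_top] at h5
  exact h5

section select

variable {k A K V : Type*} [CommRing k] [CommRing A] [IsLocalRing A] [Algebra k A]
  [Field K] [Algebra A K] [AddCommGroup V] [Module k V] [Module A V] [Module K V]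
  [IsScalarTower A K V]

theorem exists_unit_notMem (δ : Derivation k A V) (hδ : Submodule.span K (Set.range δ) = ⊤)
    (W : Submodule K V) (hW : W ≠ ⊤) (x : A) (hx : algebraMap A K x ≠ 0) :
    ∃ u : Aˣ, δ (u * x) ∉ W := by
  by_contra! hcon
  have h1 : δ x ∈ W := by simpa using hcon 1
  have h2 : ∀ u : Aˣ, δ (u : A) ∈ W := by
    intro u
    have h3 := hcon u
    rw [Derivation.leibniz] at h3
    have h4 : (u : A) • δ x ∈ W := by
      rw [← algebraMap_smul K (u : A)]
      exact Submodule.smul_mem _ _ h1
    have h5 : x • δ (u : A) ∈ W := (Submodule.add_mem_iff_right _ h4).mp h3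
    rw [← algebraMap_smul K x] at h5
    exact (Submodule.smul_mem_iff _ hx).mp h5
  apply hW
  rw [eq_top_iff, ← hδ, Submodule.span_le]
  rintro _ ⟨a, rfl⟩
  rcases IsLocalRing.isUnit_or_isUnit_one_sub_self a with ha | ha
  · obtain ⟨u, rfl⟩ := ha
    exact h2 u
  · obtain ⟨u, hu⟩ := ha
    have h6 := h2 u
    rw [hu, map_sub, Derivation.map_one_eq_zero, zero_sub] at h6
    exact (Submodule.neg_mem_iff _).mp h6

theorem exists_units (δ : Derivation k A V) (hδ : Submodule.span K (Set.range δ) = ⊤)
    [FiniteDimensional K V] (i : ℕ) (x : Fin i → A) (hx : ∀ j, algebraMap A K (x j) ≠ 0)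
    (hi : i ≤ Module.finrank K V) :
    ∃ u : Fin i → Aˣ, LinearIndependent K (fun j => δ ((u j : A) * x j)) := by
  induction i with
  | zero => exact ⟨Fin.elim0, linearIndependent_empty_type⟩
  | succ i ih =>
    obtain ⟨u, hu⟩ := ih (fun j => x j.succ) (fun j => hx _) (by omega)
    set W : Submodule K V := Submodule.span K (Set.range fun j => δ ((u j : A) * x j.succ))
    have hW : W ≠ ⊤ := by
      intro h
      have h1 : Module.finrank K V ≤ i := by
        rw [← finrank_top K V, ← h]
        exact (finrank_range_le_card (R := K) (fun j => δ ((u j : A) * x j.succ))).trans (by simp)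
      omega
    obtain ⟨u0, hu0⟩ := exists_unit_notMem δ hδ W hW (x 0) (hx 0)
    refine ⟨Fin.cons u0 u, ?_⟩
    have h1 : (fun j => δ ((((Fin.cons u0 u : Fin (i + 1) → Aˣ) j : Aˣ) : A) * x j)) =
        (Fin.cons (δ ((u0 : A) * x 0)) (fun j => δ ((u j : A) * x j.succ)) : Fin (i + 1) → V) := by
      ext j
      refine Fin.cases ?_ (fun j => ?_) j <;> simp
    rw [h1, linearIndependent_finCons]
    exact ⟨hu, hu0⟩

end select

end K148.Units
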